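import Groth.Agent.Coherent.K360.DegenRing

/-!
# Degeneracy loci of general block triangular matrices
-/

set_option autoImplicit false
universe u

namespace K360.DegenBlock

open K821.Minors K360.DegenRing

section Block

variable {k : Type u} [Field k] {R : Type u} [CommRing R] [Algebra k R] [Algebra.FiniteType k R] {m : ℕ}
  {ρ₁ ρ₂ γ₁ γ₂ : Type*} [DecidableEq ρ₁] [DecidableEq ρ₂] [DecidableEq γ₁] [DecidableEq γ₂]
  [Fintype ρ₁] [Fintype ρ₂] [Fintype γ₁] [Fintype γ₂]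

/-- The positions of block triangular matrices. -/
def blockPos (ρ₁ ρ₂ γ₁ γ₂ : Type*) [Fintype ρ₁] [Fintype ρ₂] [Fintype γ₁] [Fintype γ₂] :
    Finset ((ρ₁ ⊕ ρ₂) × (γ₁ ⊕ γ₂)) :=
  Finset.univ.filter fun x => ¬ (x.1.isLeft ∧ x.2.isRight)

theorem linAlg_block {L : Type*} [Field L] (M : Matrix (ρ₁ ⊕ ρ₂) (γ₁ ⊕ γ₂) L)
    (hM : ∀ i j, M (Sum.inl i) (Sum.inr j) = 0)
    (hle : Fintype.card γ₂ ≤ Fintype.card ρ₂) (hle' : Fintype.card (γ₁ ⊕ γ₂) ≤ Fintype.card (ρ₁ ⊕ ρ₂))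
    (h : minorIdeal (Fintype.card (γ₁ ⊕ γ₂)) M = ⊥) :
    ∃ (J W : Finset (γ₁ ⊕ γ₂)) (w : γ₁ ⊕ γ₂ → γ₁ ⊕ γ₂ → L), Disjoint J W ∧
      (∀ s ∈ J, ∀ i, M i s = ∑ j ∈ W, w s j * M i j) ∧
      (min (Fintype.card ρ₂ - Fintype.card γ₂) (Fintype.card (ρ₁ ⊕ ρ₂) - Fintype.card (γ₁ ⊕ γ₂)) + 1) +
        J.card * W.card ≤ ((blockPos ρ₁ ρ₂ γ₁ γ₂).filter fun x => x.2 ∈ J).card := by
  classical
  -- a relation with support in a set of columns
  have key : ∀ (v : γ₁ ⊕ γ₂ → L) (s : γ₁ ⊕ γ₂) (W : Finset (γ₁ ⊕ γ₂)), v s ≠ 0 → s ∉ W →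
      (∀ j, j ≠ s → j ∉ W → v j = 0) → M.mulVec v = 0 →
      ∀ i, M i s = ∑ j ∈ W, (-(v j) / v s) * M i j := by
    intro v s W hvs hsW hv0 hMv i
    have h1 := congrFun hMv i
    rw [Matrix.mulVec, dotProduct, Pi.zero_apply] at h1
    have h2 : ∑ j, M i j * v j = M i s * v s + ∑ j ∈ W, M i j * v j := by
      rw [← Finset.sum_insert (f := fun j => M i j * v j) hsW]
      refine (Finset.sum_subset (Finset.subset_univ _) fun j _ hj => ?_).symm
      rw [Finset.mem_insert, not_or] at hj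
      rw [hv0 j hj.1 hj.2, mul_zero]
    rw [h2] at h1
    have h3 : ∑ j ∈ W, (-(v j) / v s) * M i j = -(∑ j ∈ W, M i j * v j) * (v s)⁻¹ := by
      rw [neg_mul, Finset.sum_mul, ← Finset.sum_neg_distrib]
      refine Finset.sum_congr rfl fun j _ => ?_
      ring
    rw [h3, eq_mul_inv_iff_mul_eq₀ hvs]
    linear_combination h1
  by_cases h22 : minorIdeal (Fintype.card γ₂) (M.submatrix (Sum.inr : ρ₂ → ρ₁ ⊕ ρ₂) (Sum.inr : γ₂ → γ₁ ⊕ γ₂)) = ⊥
  · obtain ⟨v, hv0, hv⟩ := DegenTrdeg.exists_kernel (Fintype.card γ₂) rfl _ h22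
    obtain ⟨s, hs⟩ : ∃ s, v s ≠ 0 := by
      by_contra hcon
      push Not at hcon
      exact hv0 (funext hcon)
    let W : Finset (γ₁ ⊕ γ₂) := (Finset.univ.erase s).map ⟨Sum.inr, Sum.inr_injective⟩
    have hsW : (Sum.inr s : γ₁ ⊕ γ₂) ∉ W := by simp [W]
    refine ⟨{Sum.inr s}, W, fun _ j => -(Sum.elim (fun _ : γ₁ => (0 : L)) v j) / v s, ?_, ?_, ?_⟩
    · rwa [Finset.disjoint_singleton_left]
    · intro s' hs' i
      rw [Finset.mem_singleton] at hs'
      subst hs'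
      refine key (Sum.elim (fun _ : γ₁ => (0 : L)) v) (Sum.inr s) W hs hsW ?_ ?_ i
      · rintro (j | j) hj hjW
        · rfl
        · exact absurd (Finset.mem_map.2 ⟨j, by simpa using fun h => hj (by rw [h]), rfl⟩) hjW
      · ext i
        rw [Matrix.mulVec, dotProduct, Fintype.sum_sum_type, Pi.zero_apply]
        simp only [Sum.elim_inl, Sum.elim_inr, Pi.zero_apply, mul_zero, Finset.sum_const_zero, zero_add]
        rcases i with i | i
        · exact Finset.sum_eq_zero fun j _ => by rw [hM, zero_mul]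
        · exact congrFun hv i
    · have h1 : ((blockPos ρ₁ ρ₂ γ₁ γ₂).filter fun x => x.2 ∈ ({Sum.inr s} : Finset (γ₁ ⊕ γ₂))) =
          (Finset.univ.map ⟨Sum.inr, Sum.inr_injective⟩ : Finset (ρ₁ ⊕ ρ₂)) ×ˢ {Sum.inr s} := by
        ext ⟨i, j⟩
        rcases i with i | i <;> rcases j with j | j <;> simp [blockPos] <;> exact eq_comm
      have h2 : W.card = Fintype.card γ₂ - 1 := by
        simp [W]
      have h3 : 0 < Fintype.card γ₂ := Fintype.card_pos_iff.2 ⟨s⟩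
      rw [h2, h1, Finset.card_product, Finset.card_map, Finset.card_univ, Finset.card_singleton, one_mul, mul_one]
      have := min_le_left (Fintype.card ρ₂ - Fintype.card γ₂) (Fintype.card (ρ₁ ⊕ ρ₂) - Fintype.card (γ₁ ⊕ γ₂))
      omega
  · obtain ⟨v, hv0, hv⟩ := DegenTrdeg.exists_kernel (Fintype.card (γ₁ ⊕ γ₂)) rfl _ h
    obtain ⟨s, hs⟩ : ∃ s : γ₁, v (Sum.inl s) ≠ 0 := by
      by_contra hcon
      push Not at hcon
      apply h22
      rw [eq_bot_iff, minorIdeal_le_iff]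
      intro e f
      rw [Ideal.mem_bot]
      by_contra hdet
      have hne : (fun j => v (Sum.inr j)) ≠ 0 := by
        intro h0
        apply hv0
        funext j
        rcases j with j | j
        · exact hcon j
        · exact congrFun h0 j
      -- `f` is a bijection
      have hfinj : Function.Injective f := by
        intro a b hab
        by_contra hne'
        exact hdet (Matrix.det_zero_of_column_eq hne' fun i => by
          simp only [Matrix.submatrix_apply, hab])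
      have hfbij : Function.Bijective f := (Fintype.bijective_iff_injective_and_card f).2 ⟨hfinj, by simp⟩
      have h1 : ((M.submatrix (Sum.inr : ρ₂ → ρ₁ ⊕ ρ₂) (Sum.inr : γ₂ → γ₁ ⊕ γ₂)).submatrix e f).mulVec
          (fun a => v (Sum.inr (f a))) = 0 := by
        ext i
        have h2 := congrFun hv (Sum.inr (e i))
        rw [Matrix.mulVec, dotProduct, Fintype.sum_sum_type, Pi.zero_apply] at h2
        have h3 : ∑ j, M (Sum.inr (e i)) (Sum.inl j) * v (Sum.inl j) = 0 :=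
          Finset.sum_eq_zero fun j _ => by rw [hcon, mul_zero]
        rw [h3, zero_add] at h2
        rw [Matrix.mulVec, dotProduct, Pi.zero_apply, ← h2]
        exact (Equiv.ofBijective f hfbij).sum_comp (fun j => M (Sum.inr (e i)) (Sum.inr j) * v (Sum.inr j))
      have h3 := Matrix.eq_zero_of_mulVec_eq_zero hdet h1
      apply hne
      funext j
      obtain ⟨a, rfl⟩ := hfbij.2 j
      exact congrFun h3 a
    refine ⟨{Sum.inl s}, Finset.univ.erase (Sum.inl s), fun _ j => -(v j) / v (Sum.inl s), ?_, ?_, ?_⟩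
    · rw [Finset.disjoint_singleton_left]
      exact Finset.notMem_erase _ _
    · intro s' hs' i
      rw [Finset.mem_singleton] at hs'
      subst hs'
      refine key v (Sum.inl s) _ hs (Finset.notMem_erase _ _) (fun j hj hjW => ?_) hv i
      exact absurd (Finset.mem_erase.2 ⟨hj, Finset.mem_univ _⟩) hjW
    · have h1 : ((blockPos ρ₁ ρ₂ γ₁ γ₂).filter fun x => x.2 ∈ ({Sum.inl s} : Finset (γ₁ ⊕ γ₂))) =
          (Finset.univ : Finset (ρ₁ ⊕ ρ₂)) ×ˢ {Sum.inl s} := by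
        ext ⟨i, j⟩
        rcases i with i | i <;> rcases j with j | j <;> simp [blockPos] <;> exact eq_comm
      rw [h1, Finset.card_product, Finset.card_univ, Finset.card_singleton, one_mul, mul_one,
        Finset.card_erase_of_mem (Finset.mem_univ _), Finset.card_univ]
      have h3 : 0 < Fintype.card (γ₁ ⊕ γ₂) := Fintype.card_pos_iff.2 ⟨Sum.inl s⟩
      have := min_le_right (Fintype.card ρ₂ - Fintype.card γ₂) (Fintype.card (ρ₁ ⊕ ρ₂) - Fintype.card (γ₁ ⊕ γ₂))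
      omega

/-- **General block triangular matrices.** -/
theorem exists_poly_block (n : ℕ) (hn : ringKrullDim R ≤ n) (N : Fin m → Matrix (ρ₁ ⊕ ρ₂) (γ₁ ⊕ γ₂) R)
    (hN : ∀ l i j, N l (Sum.inl i) (Sum.inr j) = 0)
    (hspan : ∀ x ∈ blockPos ρ₁ ρ₂ γ₁ γ₂, ∃ a : Fin m → R, ∀ y ∈ blockPos ρ₁ ρ₂ γ₁ γ₂,
      ∑ l, a l * N l y.1 y.2 = if y = x then 1 else 0)
    (hle : Fintype.card γ₂ ≤ Fintype.card ρ₂) (hle' : Fintype.card (γ₁ ⊕ γ₂) ≤ Fintype.card (ρ₁ ⊕ ρ₂)) :
    ∃ p : MvPolynomial (Fin m) k, p ≠ 0 ∧ ∀ t : Fin m → k, MvPolynomial.eval t p ≠ 0 →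
      ringKrullDim (R ⧸ minorIdeal (Fintype.card (γ₁ ⊕ γ₂)) (mem N fun l => algebraMap k R (t l))) +
        ((min (Fintype.card ρ₂ - Fintype.card γ₂) (Fintype.card (ρ₁ ⊕ ρ₂) - Fintype.card (γ₁ ⊕ γ₂)) + 1 : ℕ) :
          WithBot ℕ∞) ≤ (n : WithBot ℕ∞) := by
  obtain ⟨p, hp0, hp⟩ := exists_poly_dim (k := k) n hn N (blockPos ρ₁ ρ₂ γ₁ γ₂)
    (fun l i j hij => by
      rcases i with i | i
      · rcases j with j | j
        · exact absurd (by simp [blockPos]) hij
        · exact hN l i j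
      · exact absurd (by simp [blockPos]) hij)
    hspan _ (minorIdeal (Fintype.card (γ₁ ⊕ γ₂)) (gen N)) (fun L _ φ hφ => by
      have h1 : minorIdeal (Fintype.card (γ₁ ⊕ γ₂)) ((gen N).map φ) = ⊥ := by
        rw [minorIdeal_map, Ideal.map_eq_bot_iff_le_ker]
        exact hφ
      refine linAlg_block ((gen N).map φ) (fun i j => ?_) hle hle' h1
      rw [Matrix.map_apply, gen_apply, Finset.sum_eq_zero, map_zero]
      intro l _
      rw [hN, map_zero, mul_zero])
  refine ⟨p, hp0, fun t ht => ?_⟩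
  have h1 := hp t ht
  rw [← minorIdeal_map, gen_map] at h1
  exact h1

end Block

end K360.DegenBlock
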