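import Groth.Agent.SDiv.K474.FittLoc
import Groth.Agent.Surf.K461.LFHom
import Groth.Agent.CohqB.HomSheafCoh
import Groth.Agent.CurvesC.GGSec
import Groth.Agent.Dcoh.FTFP
import Groth.Agent.PerfA.QCohSerre
import Groth.Agent.PerfA.CohSerre
import Groth.Agent.Smoothlim.ModKer
import Groth.Agent.FormalB.QcSect
import Groth.Agent.QuotLF.K821.FittMinors
import Groth.Agent.VBCurve.K706.HomFin
import Groth.Agent.Coherent.K360.DegenBlock

/-!
# Morphisms of finite locally free modules as matrices over affine opens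

* `LinSpan A B V`: the restrictions to `V` of the morphisms `A ⟶ B` generate all linear maps of sections;
  `linSpan_of_gg`: holds for every affine `V` if `Hom(A, B)` is globally generated.
* `mat`: the matrix of a morphism; `mat_eq_mem`: in linear coordinates on `Hom(A, B)` it is a member of a linear family.
* `fitt_ideal`: the Fitting ideal sheaves of the cokernel are the ideals of minors.
-/

set_option autoImplicit false
universe u

open CategoryTheory CategoryTheory.Limits AlgebraicGeometry TopologicalSpace Opposite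

namespace K360.DegenChart

open Groth.Agent Groth.Agent.CohqB.HomSheaf Groth.Agent.CohqB.FiniteType2 Groth.Agent.Sga2.PnHomAdj
  K821.Minors K360.DegenRing

variable {X : Scheme.{u}}

/-! ### Global generation -/

/-- The restrictions to `V` of the morphisms `A ⟶ B` generate all linear maps of sections. -/
def LinSpan (A B : X.Modules) (V : X.Opens) : Prop :=
  ∀ T : Γ(A, V) →ₗ[Γ(X, V)] Γ(B, V),
    T ∈ Submodule.span Γ(X, V) (Set.range fun φ : A ⟶ B => appLinear φ V)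

theorem isGloballyGenerated_of_iso {F G : X.Modules} (e : F ≅ G) (h : Curv2.IsGloballyGenerated F) :
    Curv2.IsGloballyGenerated G := by
  obtain ⟨ι, p, hp⟩ := h
  have := hp
  exact ⟨ι, p ≫ e.hom, epi_comp p e.hom⟩

theorem linSpan_of_gg [IsLocallyNoetherian X] {A B : X.Modules} (hA : Coh.IsCoh A) (hB : Coh.IsQCoh B)
    [DCoh.HasSheafHom A] (hgg : Curv2.IsGloballyGenerated ((DCoh.sheafHom A).obj B))
    {V : X.Opens} (hV : IsAffineOpen V) : LinSpan A B V := by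
  intro T
  have hq : Coh.IsQCoh (homSheaf A B) :=
    isQCoh_homSheaf hA.1 hB fun U hU => finitePresentation_of_isCoh hA hU
  have hgg' : Curv2.IsGloballyGenerated (homSheaf A B) :=
    isGloballyGenerated_of_iso ((sheafHomIso A).app B) hgg
  obtain ⟨ι, e, he⟩ := CurvesC.GGSec.exists_sections_of_isGloballyGenerated hgg'
  have h1 := CurvesC.GGSec.spanOn_eq_top (e := e) hq he hV
  have h2 : (affineEquiv hA.1 hV).symm T ∈ CurvesC.GGSec.spanOn (homSheaf A B) e V := by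
    rw [h1]
    trivial
  have h3 := Submodule.mem_map_of_mem (f := (affineEquiv hA.1 hV (N := B)).toLinearMap) h2
  rw [CurvesC.GGSec.spanOn, Submodule.map_span, ← Set.range_comp] at h3
  have h4 : (affineEquiv hA.1 hV (N := B)).toLinearMap ((affineEquiv hA.1 hV).symm T) = T :=
    LinearEquiv.apply_symm_apply _ _
  rw [h4] at h3
  refine Submodule.span_mono ?_ h3
  rintro _ ⟨i, rfl⟩
  exact ⟨toHom (e i), rfl⟩

section Span

variable {A B A₁ A₂ B₁ B₂ : X.Modules} {V : X.Opens}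

theorem appLinear_comp (φ : A ⟶ A₁) (ψ : A₁ ⟶ B) (V : X.Opens) :
    appLinear (φ ≫ ψ) V = (appLinear ψ V).comp (appLinear φ V) := rfl

theorem appLinear_add (φ ψ : A ⟶ B) (V : X.Opens) :
    appLinear (φ + ψ) V = appLinear φ V + appLinear ψ V := rfl

theorem appLinear_zero (V : X.Opens) : appLinear (0 : A ⟶ B) V = 0 := rfl

/-- transport of the span property along a pair of maps -/
theorem comp_mem_span {T : Γ(A₁, V) →ₗ[Γ(X, V)] Γ(B₁, V)}
    (hT : T ∈ Submodule.span Γ(X, V) (Set.range fun φ : A₁ ⟶ B₁ => appLinear φ V))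
    (α : A ⟶ A₁) (β : B₁ ⟶ B) :
    (appLinear β V).comp (T.comp (appLinear α V)) ∈
      Submodule.span Γ(X, V) (Set.range fun φ : A ⟶ B => appLinear φ V) := by
  induction hT using Submodule.span_induction with
  | mem T hT =>
    obtain ⟨φ, rfl⟩ := hT
    exact Submodule.subset_span ⟨α ≫ φ ≫ β, rfl⟩
  | zero => 
    rw [LinearMap.zero_comp, LinearMap.comp_zero]
    exact Submodule.zero_mem _
  | add x y _ _ hx hy =>
    rw [LinearMap.add_comp, LinearMap.comp_add]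
    exact Submodule.add_mem _ hx hy
  | smul a x _ hx =>
    rw [LinearMap.smul_comp, LinearMap.comp_smul]
    exact Submodule.smul_mem _ _ hx

theorem linSpan_sigma_left {m : ℕ} (A : Fin m → X.Modules) (h : ∀ i, LinSpan (A i) B V) : LinSpan (∐ A) B V := by
  intro T
  have h1 : T = ∑ i, (appLinear (𝟙 B) V).comp ((T.comp (appLinear (Sigma.ι A i) V)).comp
      (appLinear (Sigma.π A i) V)) := by
    have h2 : appLinear (∑ i, Sigma.π A i ≫ Sigma.ι A i) V = ∑ i, appLinear (Sigma.π A i ≫ Sigma.ι A i) V :=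
      map_sum (⟨⟨fun φ : (∐ A ⟶ ∐ A) => appLinear φ V, rfl⟩, fun _ _ => rfl⟩ : (∐ A ⟶ ∐ A) →+ _) _ _
    rw [Dcoh.LocLift.sum_π_ι] at h2
    have h3 : T = T.comp (appLinear (𝟙 (∐ A)) V) := rfl
    conv_lhs => rw [h3, h2]
    ext x
    rw [LinearMap.comp_apply, LinearMap.sum_apply, LinearMap.sum_apply, map_sum]
    rfl
  rw [h1]
  exact Submodule.sum_mem _ fun i _ => comp_mem_span (h i _) _ _

theorem linSpan_sigma_right {m : ℕ} (B : Fin m → X.Modules) (h : ∀ i, LinSpan A (B i) V) : LinSpan A (∐ B) V := by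
  intro T
  have h1 : T = ∑ i, (appLinear (Sigma.ι B i) V).comp (((appLinear (Sigma.π B i) V).comp T).comp
      (appLinear (𝟙 A) V)) := by
    have h2 : appLinear (∑ i, Sigma.π B i ≫ Sigma.ι B i) V = ∑ i, appLinear (Sigma.π B i ≫ Sigma.ι B i) V :=
      map_sum (⟨⟨fun φ : (∐ B ⟶ ∐ B) => appLinear φ V, rfl⟩, fun _ _ => rfl⟩ : (∐ B ⟶ ∐ B) →+ _) _ _
    rw [Dcoh.LocLift.sum_π_ι] at h2
    have h3 : T = (appLinear (𝟙 (∐ B)) V).comp T := rfl
    conv_lhs => rw [h3, h2]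
    ext x
    rw [LinearMap.comp_apply, LinearMap.sum_apply, LinearMap.sum_apply]
    rfl
  rw [h1]
  exact Submodule.sum_mem _ fun i _ => comp_mem_span (h i _) _ _

theorem linSpan_biprod_right (h₁ : LinSpan A B₁ V) (h₂ : LinSpan A B₂ V) : LinSpan A (B₁ ⊞ B₂) V := by
  intro T
  have h1 : T = (appLinear (biprod.inl : B₁ ⟶ B₁ ⊞ B₂) V).comp
        (((appLinear (biprod.fst : B₁ ⊞ B₂ ⟶ B₁) V).comp T).comp (appLinear (𝟙 A) V)) +
      (appLinear (biprod.inr : B₂ ⟶ B₁ ⊞ B₂) V).comp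
        (((appLinear (biprod.snd : B₁ ⊞ B₂ ⟶ B₂) V).comp T).comp (appLinear (𝟙 A) V)) := by
    have h2 : appLinear (biprod.fst ≫ biprod.inl + biprod.snd ≫ biprod.inr : B₁ ⊞ B₂ ⟶ B₁ ⊞ B₂) V =
        appLinear (𝟙 (B₁ ⊞ B₂)) V := by
      rw [biprod.total]
    have h3 : T = (appLinear (𝟙 (B₁ ⊞ B₂)) V).comp T := rfl
    conv_lhs => rw [h3, ← h2]
    rfl
  rw [h1]
  exact Submodule.add_mem _ (comp_mem_span (h₁ _) _ _) (comp_mem_span (h₂ _) _ _)

/-- a pair of modules of rank one with a morphism which is an isomorphism over `V` -/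
theorem linSpan_of_bijective (φ : A ⟶ B) (hφ : Function.Bijective (appLinear φ V))
    (e : Module.Basis (Fin 1) Γ(X, V) Γ(A, V)) : LinSpan A B V := by
  intro T
  let E : Γ(A, V) ≃ₗ[Γ(X, V)] Γ(B, V) := LinearEquiv.ofBijective _ hφ
  let r : Γ(X, V) := e.repr (E.symm (T (e 0))) 0
  have h1 : T = r • appLinear φ V := by
    refine e.ext fun i => ?_
    rw [Subsingleton.elim i 0, LinearMap.smul_apply, ← map_smul]
    have h2 : r • e 0 = E.symm (T (e 0)) := by
      have := e.sum_repr (E.symm (T (e 0)))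
      rwa [Fin.sum_univ_one] at this
    rw [h2]
    exact (E.apply_symm_apply _).symm
  rw [h1]
  exact Submodule.smul_mem _ _ (Submodule.subset_span ⟨φ, rfl⟩)

end Span

/-! ### Matrices -/

section Mat

variable {A B : X.Modules} {V : X.Opens} {ρ γ : Type} [Fintype ρ] [Fintype γ] [DecidableEq γ]
  (e : Module.Basis γ Γ(X, V) Γ(A, V)) (f : Module.Basis ρ Γ(X, V) Γ(B, V))

/-- The matrix of a morphism over an open on which the modules have bases. -/
noncomputable def mat (φ : A ⟶ B) : Matrix ρ γ Γ(X, V) := LinearMap.toMatrix e f (appLinear φ V)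

theorem mat_apply (φ : A ⟶ B) (i : ρ) (j : γ) : mat e f φ i j = f.repr (φ.app V (e j)) i :=
  LinearMap.toMatrix_apply ..

section Lin

variable (k : Type u) [Field k] [X.Over (Spec (CommRingCat.of k))]

/-- The ring map `k → Γ(X, V)`. -/
noncomputable def kap (V : X.Opens) : k →+* Γ(X, V) :=
  (X.presheaf.map (homOfLE (le_top : V ≤ ⊤)).op).hom.comp (Coh.toGlobal (X ↘ Spec (CommRingCat.of k)))

variable {k}

theorem appLinear_smul (a : k) (φ : A ⟶ B) (V : X.Opens) : appLinear (a • φ) V = kap k V a • appLinear φ V := by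
  ext m
  exact KLin.smul_app_apply a φ V m

theorem appLinear_sum {m : ℕ} (φ : Fin m → (A ⟶ B)) (V : X.Opens) :
    appLinear (∑ l, φ l) V = ∑ l, appLinear (φ l) V :=
  map_sum (⟨⟨fun φ : A ⟶ B => appLinear φ V, rfl⟩, fun _ _ => rfl⟩ : (A ⟶ B) →+ _) _ _

theorem mat_eq_mem {m : ℕ} (b : Module.Basis (Fin m) k (A ⟶ B)) (φ : A ⟶ B) :
    mat e f φ = mem (fun l => mat e f (b l)) (fun l => kap k V (b.repr φ l)) := by
  have h1 : appLinear φ V = ∑ l, kap k V (b.repr φ l) • appLinear (b l) V := by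
    conv_lhs => rw [← b.sum_repr φ]
    rw [appLinear_sum]
    exact Finset.sum_congr rfl fun l _ => appLinear_smul _ _ _
  ext i j
  rw [mem_apply, mat, h1, map_sum, Matrix.sum_apply]
  refine Finset.sum_congr rfl fun l _ => ?_
  rw [map_smul, Matrix.smul_apply, smul_eq_mul]
  rfl

/-- positions which are spanned -/
theorem exists_coeff {m : ℕ} (b : Module.Basis (Fin m) k (A ⟶ B)) (T : Γ(A, V) →ₗ[Γ(X, V)] Γ(B, V))
    (hT : T ∈ Submodule.span Γ(X, V) (Set.range fun φ : A ⟶ B => appLinear φ V)) :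
    ∃ a : Fin m → Γ(X, V), ∀ i j, ∑ l, a l * mat e f (b l) i j = LinearMap.toMatrix e f T i j := by
  have h1 : Submodule.span Γ(X, V) (Set.range fun φ : A ⟶ B => appLinear φ V) ≤
      Submodule.span Γ(X, V) (Set.range fun l => appLinear (b l) V) := by
    rw [Submodule.span_le]
    rintro _ ⟨φ, rfl⟩
    have h2 : appLinear φ V = ∑ l, kap k V (b.repr φ l) • appLinear (b l) V := by
      conv_lhs => rw [← b.sum_repr φ]
      rw [appLinear_sum]
      exact Finset.sum_congr rfl fun l _ => appLinear_smul _ _ _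
    change appLinear φ V ∈ _
    rw [h2]
    exact Submodule.sum_mem _ fun l _ => Submodule.smul_mem _ _ (Submodule.subset_span ⟨l, rfl⟩)
  obtain ⟨a, ha⟩ := (Submodule.mem_span_range_iff_exists_fun _).1 (h1 hT)
  refine ⟨a, fun i j => ?_⟩
  rw [← ha, map_sum, Matrix.sum_apply]
  refine Finset.sum_congr rfl fun l _ => ?_
  rw [map_smul, Matrix.smul_apply, smul_eq_mul]
  rfl

end Lin

/-! ### Biproducts -/

section Bip

variable {A₁ A₂ B₁ B₂ : X.Modules}

omit [Fintype ρ] [Fintype γ] [DecidableEq γ] in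
theorem fst_inl (x : Γ(A₁, V)) :
    appLinear (biprod.fst : A₁ ⊞ A₂ ⟶ A₁) V (appLinear (biprod.inl : A₁ ⟶ A₁ ⊞ A₂) V x) = x := by
  have h : appLinear ((biprod.inl : A₁ ⟶ A₁ ⊞ A₂) ≫ biprod.fst) V x = appLinear (𝟙 A₁) V x := by
    rw [biprod.inl_fst]
  exact h

omit [Fintype ρ] [Fintype γ] [DecidableEq γ] in
theorem fst_inr (x : Γ(A₂, V)) :
    appLinear (biprod.fst : A₁ ⊞ A₂ ⟶ A₁) V (appLinear (biprod.inr : A₂ ⟶ A₁ ⊞ A₂) V x) = 0 := by
  have h : appLinear ((biprod.inr : A₂ ⟶ A₁ ⊞ A₂) ≫ biprod.fst) V x = appLinear (0 : A₂ ⟶ A₁) V x := by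
    rw [biprod.inr_fst]
  exact h

omit [Fintype ρ] [Fintype γ] [DecidableEq γ] in
theorem snd_inl (x : Γ(A₁, V)) :
    appLinear (biprod.snd : A₁ ⊞ A₂ ⟶ A₂) V (appLinear (biprod.inl : A₁ ⟶ A₁ ⊞ A₂) V x) = 0 := by
  have h : appLinear ((biprod.inl : A₁ ⟶ A₁ ⊞ A₂) ≫ biprod.snd) V x = appLinear (0 : A₁ ⟶ A₂) V x := by
    rw [biprod.inl_snd]
  exact h

omit [Fintype ρ] [Fintype γ] [DecidableEq γ] in
theorem snd_inr (x : Γ(A₂, V)) :
    appLinear (biprod.snd : A₁ ⊞ A₂ ⟶ A₂) V (appLinear (biprod.inr : A₂ ⟶ A₁ ⊞ A₂) V x) = x := by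
  have h : appLinear ((biprod.inr : A₂ ⟶ A₁ ⊞ A₂) ≫ biprod.snd) V x = appLinear (𝟙 A₂) V x := by
    rw [biprod.inr_snd]
  exact h

omit [Fintype ρ] [Fintype γ] [DecidableEq γ] in
theorem total_app (x : Γ(A₁ ⊞ A₂, V)) :
    appLinear (biprod.inl : A₁ ⟶ A₁ ⊞ A₂) V (appLinear (biprod.fst : A₁ ⊞ A₂ ⟶ A₁) V x) +
      appLinear (biprod.inr : A₂ ⟶ A₁ ⊞ A₂) V (appLinear (biprod.snd : A₁ ⊞ A₂ ⟶ A₂) V x) = x := by
  have h : appLinear (biprod.fst ≫ biprod.inl + biprod.snd ≫ biprod.inr : A₁ ⊞ A₂ ⟶ A₁ ⊞ A₂) V x =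
      appLinear (𝟙 (A₁ ⊞ A₂)) V x := by
    rw [biprod.total]
  exact h

/-- Sections of a biproduct. -/
noncomputable def bipEquiv (A₁ A₂ : X.Modules) (V : X.Opens) :
    Γ(A₁ ⊞ A₂, V) ≃ₗ[Γ(X, V)] Γ(A₁, V) × Γ(A₂, V) :=
  LinearEquiv.ofLinearMap
    ((appLinear (biprod.fst : A₁ ⊞ A₂ ⟶ A₁) V).prod (appLinear (biprod.snd : A₁ ⊞ A₂ ⟶ A₂) V))
    ((appLinear (biprod.inl : A₁ ⟶ A₁ ⊞ A₂) V).coprod (appLinear (biprod.inr : A₂ ⟶ A₁ ⊞ A₂) V))
    (LinearMap.ext fun x => Prod.ext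
      (by
        change appLinear biprod.fst V (appLinear biprod.inl V x.1 + appLinear biprod.inr V x.2) = x.1
        rw [map_add, fst_inl, fst_inr, add_zero])
      (by
        change appLinear biprod.snd V (appLinear biprod.inl V x.1 + appLinear biprod.inr V x.2) = x.2
        rw [map_add, snd_inl, snd_inr, zero_add]))
    (LinearMap.ext fun x => total_app x)

variable {γ₁ γ₂ ρ₁ ρ₂ : Type} [Fintype γ₁] [Fintype γ₂] [DecidableEq γ₁] [DecidableEq γ₂] [Fintype ρ₁] [Fintype ρ₂]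
  (e₁ : Module.Basis γ₁ Γ(X, V) Γ(A₁, V)) (e₂ : Module.Basis γ₂ Γ(X, V) Γ(A₂, V))
  (f₁ : Module.Basis ρ₁ Γ(X, V) Γ(B₁, V)) (f₂ : Module.Basis ρ₂ Γ(X, V) Γ(B₂, V))

/-- Bases of a biproduct. -/
noncomputable def bip : Module.Basis (γ₁ ⊕ γ₂) Γ(X, V) Γ(A₁ ⊞ A₂, V) := (e₁.prod e₂).map (bipEquiv A₁ A₂ V).symm

omit [Fintype γ₁] [Fintype γ₂] [DecidableEq γ₁] [DecidableEq γ₂] in
theorem bip_inl (j : γ₁) : bip e₁ e₂ (Sum.inl j) = (biprod.inl : A₁ ⟶ A₁ ⊞ A₂).app V (e₁ j) := by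
  rw [bip, Module.Basis.map_apply, Module.Basis.prod_apply]
  change (appLinear (biprod.inl : A₁ ⟶ A₁ ⊞ A₂) V) (e₁ j) + (appLinear (biprod.inr : A₂ ⟶ A₁ ⊞ A₂) V) 0 = _
  rw [map_zero, add_zero]
  rfl

omit [Fintype γ₁] [Fintype γ₂] [DecidableEq γ₁] [DecidableEq γ₂] in
theorem bip_inr (j : γ₂) : bip e₁ e₂ (Sum.inr j) = (biprod.inr : A₂ ⟶ A₁ ⊞ A₂).app V (e₂ j) := by
  rw [bip, Module.Basis.map_apply, Module.Basis.prod_apply]
  change (appLinear (biprod.inl : A₁ ⟶ A₁ ⊞ A₂) V) 0 + (appLinear (biprod.inr : A₂ ⟶ A₁ ⊞ A₂) V) (e₂ j) = _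
  rw [map_zero, zero_add]
  rfl

omit [Fintype γ₁] [Fintype γ₂] [DecidableEq γ₁] [DecidableEq γ₂] in
theorem bip_repr_inl (x : Γ(A₁ ⊞ A₂, V)) (j : γ₁) :
    (bip e₁ e₂).repr x (Sum.inl j) = e₁.repr (appLinear (biprod.fst : A₁ ⊞ A₂ ⟶ A₁) V x) j := by
  rw [bip, Module.Basis.map_repr]
  rfl

omit [Fintype γ₁] [Fintype γ₂] [DecidableEq γ₁] [DecidableEq γ₂] in
theorem bip_repr_inr (x : Γ(A₁ ⊞ A₂, V)) (j : γ₂) :
    (bip e₁ e₂).repr x (Sum.inr j) = e₂.repr (appLinear (biprod.snd : A₁ ⊞ A₂ ⟶ A₂) V x) j := by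
  rw [bip, Module.Basis.map_repr]
  rfl

/-- The matrix of a linear map of sections of biproducts. -/
theorem toMatrix_bip (T : Γ(A₁ ⊞ A₂, V) →ₗ[Γ(X, V)] Γ(B₁ ⊞ B₂, V)) :
    LinearMap.toMatrix (bip e₁ e₂) (bip f₁ f₂) T = Matrix.fromBlocks
      (LinearMap.toMatrix e₁ f₁ ((appLinear biprod.fst V).comp (T.comp (appLinear biprod.inl V))))
      (LinearMap.toMatrix e₂ f₁ ((appLinear biprod.fst V).comp (T.comp (appLinear biprod.inr V))))
      (LinearMap.toMatrix e₁ f₂ ((appLinear biprod.snd V).comp (T.comp (appLinear biprod.inl V))))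
      (LinearMap.toMatrix e₂ f₂ ((appLinear biprod.snd V).comp (T.comp (appLinear biprod.inr V)))) := by
  ext (i | i) (j | j)
  · rw [LinearMap.toMatrix_apply, bip_inl, bip_repr_inl, Matrix.fromBlocks_apply₁₁, LinearMap.toMatrix_apply]
    rfl
  · rw [LinearMap.toMatrix_apply, bip_inr, bip_repr_inl, Matrix.fromBlocks_apply₁₂, LinearMap.toMatrix_apply]
    rfl
  · rw [LinearMap.toMatrix_apply, bip_inl, bip_repr_inr, Matrix.fromBlocks_apply₂₁, LinearMap.toMatrix_apply]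
    rfl
  · rw [LinearMap.toMatrix_apply, bip_inr, bip_repr_inr, Matrix.fromBlocks_apply₂₂, LinearMap.toMatrix_apply]
    rfl

theorem toMatrix_inl_fst (S : Γ(A₁, V) →ₗ[Γ(X, V)] Γ(B₁, V)) :
    LinearMap.toMatrix (bip e₁ e₂) (bip f₁ f₂)
      ((appLinear biprod.inl V).comp (S.comp (appLinear biprod.fst V))) =
      Matrix.fromBlocks (LinearMap.toMatrix e₁ f₁ S) 0 0 0 := by
  rw [toMatrix_bip]
  congr 1
  · congr 1
    ext x
    simp only [LinearMap.comp_apply, fst_inl]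
  · rw [LinearEquiv.map_eq_zero_iff]
    ext x
    simp only [LinearMap.comp_apply, fst_inr, map_zero, LinearMap.zero_apply]
  · rw [LinearEquiv.map_eq_zero_iff]
    ext x
    simp only [LinearMap.comp_apply, snd_inl, LinearMap.zero_apply]
  · rw [LinearEquiv.map_eq_zero_iff]
    ext x
    simp only [LinearMap.comp_apply, snd_inl, LinearMap.zero_apply]

theorem toMatrix_inr_fst (S : Γ(A₁, V) →ₗ[Γ(X, V)] Γ(B₂, V)) :
    LinearMap.toMatrix (bip e₁ e₂) (bip f₁ f₂)
      ((appLinear biprod.inr V).comp (S.comp (appLinear biprod.fst V))) =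
      Matrix.fromBlocks 0 0 (LinearMap.toMatrix e₁ f₂ S) 0 := by
  rw [toMatrix_bip]
  congr 1
  · rw [LinearEquiv.map_eq_zero_iff]
    ext x
    simp only [LinearMap.comp_apply, fst_inr, LinearMap.zero_apply]
  · rw [LinearEquiv.map_eq_zero_iff]
    ext x
    simp only [LinearMap.comp_apply, fst_inr, LinearMap.zero_apply]
  · congr 1
    ext x
    simp only [LinearMap.comp_apply, snd_inr, fst_inl]
  · rw [LinearEquiv.map_eq_zero_iff]
    ext x
    simp only [LinearMap.comp_apply, fst_inr, map_zero, LinearMap.zero_apply]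

theorem toMatrix_inr_snd (S : Γ(A₂, V) →ₗ[Γ(X, V)] Γ(B₂, V)) :
    LinearMap.toMatrix (bip e₁ e₂) (bip f₁ f₂)
      ((appLinear biprod.inr V).comp (S.comp (appLinear biprod.snd V))) =
      Matrix.fromBlocks 0 0 0 (LinearMap.toMatrix e₂ f₂ S) := by
  rw [toMatrix_bip]
  congr 1
  · rw [LinearEquiv.map_eq_zero_iff]
    ext x
    simp only [LinearMap.comp_apply, fst_inr, LinearMap.zero_apply]
  · rw [LinearEquiv.map_eq_zero_iff]
    ext x
    simp only [LinearMap.comp_apply, fst_inr, LinearMap.zero_apply]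
  · rw [LinearEquiv.map_eq_zero_iff]
    ext x
    simp only [LinearMap.comp_apply, snd_inl, map_zero, LinearMap.zero_apply]
  · congr 1
    ext x
    simp only [LinearMap.comp_apply, snd_inr]

/-- The spanned positions of the matrices of morphisms of biproducts. -/
theorem exists_coeff_bip {k : Type u} [Field k] [X.Over (Spec (CommRingCat.of k))] {m : ℕ}
    [DecidableEq ρ₁] [DecidableEq ρ₂]
    (b : Module.Basis (Fin m) k ((A₁ ⊞ A₂) ⟶ (B₁ ⊞ B₂)))
    (h₁₁ : LinSpan A₁ B₁ V) (h₁₂ : LinSpan A₁ B₂ V) (h₂₂ : LinSpan A₂ B₂ V)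
    (x : (ρ₁ ⊕ ρ₂) × (γ₁ ⊕ γ₂)) (hx : x ∈ DegenBlock.blockPos ρ₁ ρ₂ γ₁ γ₂) :
    ∃ a : Fin m → Γ(X, V), ∀ y : (ρ₁ ⊕ ρ₂) × (γ₁ ⊕ γ₂),
      ∑ l, a l * mat (bip e₁ e₂) (bip f₁ f₂) (b l) y.1 y.2 = if y = x then 1 else 0 := by
  -- it suffices to find a linear map in the span with the given matrix
  have key : ∀ T : Γ(A₁ ⊞ A₂, V) →ₗ[Γ(X, V)] Γ(B₁ ⊞ B₂, V),
      T ∈ Submodule.span Γ(X, V) (Set.range fun φ : (A₁ ⊞ A₂) ⟶ (B₁ ⊞ B₂) => appLinear φ V) →
      (∀ y : (ρ₁ ⊕ ρ₂) × (γ₁ ⊕ γ₂),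
        LinearMap.toMatrix (bip e₁ e₂) (bip f₁ f₂) T y.1 y.2 = if y = x then 1 else 0) →
      ∃ a : Fin m → Γ(X, V), ∀ y : (ρ₁ ⊕ ρ₂) × (γ₁ ⊕ γ₂),
        ∑ l, a l * mat (bip e₁ e₂) (bip f₁ f₂) (b l) y.1 y.2 = if y = x then 1 else 0 := by
    intro T hT hT'
    obtain ⟨a, ha⟩ := exists_coeff (bip e₁ e₂) (bip f₁ f₂) b T hT
    exact ⟨a, fun y => by rw [ha, hT']⟩
  obtain ⟨i | i, j | j⟩ := x
  · refine key ((appLinear biprod.inl V).comp ((Matrix.toLin e₁ f₁ (Matrix.single i j 1)).comp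
      (appLinear biprod.fst V))) (comp_mem_span (h₁₁ _) _ _) ?_
    rw [toMatrix_inl_fst, LinearMap.toMatrix_toLin]
    rintro ⟨i' | i', j' | j'⟩ <;> simp [Matrix.single_apply, eq_comm]
  · exact absurd hx (by simp [DegenBlock.blockPos])
  · refine key ((appLinear biprod.inr V).comp ((Matrix.toLin e₁ f₂ (Matrix.single i j 1)).comp
      (appLinear biprod.fst V))) (comp_mem_span (h₁₂ _) _ _) ?_
    rw [toMatrix_inr_fst, LinearMap.toMatrix_toLin]
    rintro ⟨i' | i', j' | j'⟩ <;> simp [Matrix.single_apply, eq_comm]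
  · refine key ((appLinear biprod.inr V).comp ((Matrix.toLin e₂ f₂ (Matrix.single i j 1)).comp
      (appLinear biprod.snd V))) (comp_mem_span (h₂₂ _) _ _) ?_
    rw [toMatrix_inr_snd, LinearMap.toMatrix_toLin]
    rintro ⟨i' | i', j' | j'⟩ <;> simp [Matrix.single_apply, eq_comm]

end Bip

/-! ### Fitting ideals of the cokernel -/

omit [Fintype ρ] [Fintype γ] [DecidableEq γ] in
theorem exact_app (hA : Coh.IsQCoh A) (hB : Coh.IsQCoh B) (φ : A ⟶ B)
    (hV : IsAffineOpen V) (p : Γ(B, V)) (hp : (cokernel.π φ).app V p = 0) : ∃ q, φ.app V q = p := by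
  have hK : Coh.IsQCoh (Abelian.image φ) :=
    PerfA.QCohSerre.isQCoh_kernel _ hB (PerfA.QCohSerre.isQCoh_cokernel _ hA hB)
  obtain ⟨y, hy⟩ := Smoothlim.ModKer.exists_of_app_eq_zero (cokernel.π φ) V p hp
  have h1 : Coh.IsQCoh A := hA
  obtain ⟨q, hq⟩ := FormalB.QcSect.surjective_app_of_epi (Abelian.factorThruImage φ) hV y
  refine ⟨q, ?_⟩
  rw [← hy, ← hq]
  exact congrArg (fun t => (t.app V).hom q) (Abelian.image.fac φ).symm

theorem minorIdeal_submatrix_equiv {R : Type*} [CommRing R] {ι ι' κ : Type*} (g : ι' ≃ ι) (M : Matrix ι κ R) (r : ℕ) :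
    minorIdeal r (M.submatrix g id) = minorIdeal r M := by
  apply le_antisymm
  · rw [minorIdeal_le_iff]
    intro a b
    exact minor_mem r M (g ∘ a) b
  · rw [minorIdeal_le_iff]
    intro a b
    have h := minor_mem r (M.submatrix g id) (g.symm ∘ a) b
    have h2 : (M.submatrix g id).submatrix (g.symm ∘ a) b = M.submatrix a b := by
      ext i j
      simp
    rwa [h2] at h

/-- **The Fitting ideal sheaves of the cokernel over an affine open are the ideals of minors.** -/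
theorem fitt_ideal (hA : Coh.IsQCoh A) (hB : Coh.IsQCoh B) (hft : CohB1.IsFT B) (φ : A ⟶ B)
    (hV : IsAffineOpen V) (j : ℕ) :
    (Fitt.sheafIdeal (cokernel φ) j).ideal ⟨V, hV⟩ = minorIdeal (Fintype.card ρ - j) (mat e f φ) := by
  have hq : Coh.IsQCoh (cokernel φ) := PerfA.QCohSerre.isQCoh_cokernel _ hA hB
  rw [SDiv.K474.FittSheaf.sheafIdeal_ideal _ hq (CohqB.LocalQC.isFT_of_epi (cokernel.π φ) hft)]
  let g : Fin (Fintype.card ρ) ≃ ρ := (Fintype.equivFin ρ).symm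
  let f' : Module.Basis (Fin (Fintype.card ρ)) Γ(X, V) Γ(B, V) := f.reindex (Fintype.equivFin ρ)
  let P : Γ(B, V) →ₗ[Γ(X, V)] Γ(cokernel φ, V) := appLinear (cokernel.π φ) V
  have hB' : Coh.IsQCoh B := hB
  have hsurj : Function.Surjective P := FormalB.QcSect.surjective_app_of_epi (cokernel.π φ) hV
  have hx : Submodule.span Γ(X, V) (Set.range fun i => P (f' i)) = ⊤ := by
    have h1 : (Set.range fun i => P (f' i)) = P '' (Set.range f') := by
      rw [← Set.range_comp]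
      rfl
    rw [h1, Submodule.span_image, f'.span_eq, Submodule.map_top, LinearMap.range_eq_top]
    exact hsurj
  have h2 := K821.FittMinors.fitt_of_rel (fun i => P (f' i)) hx (fun j : γ => fun i => mat e f φ (g i) j) ?_ j
  · rw [h2]
    exact minorIdeal_submatrix_equiv g (mat e f φ) _
  · intro c
    have h3 : ∑ i, c i • P (f' i) = P (∑ i, c i • f' i) := by
      rw [map_sum]
      exact Finset.sum_congr rfl fun i _ => (map_smul _ _ _).symm
    rw [h3]
    have h4 : ∀ v : Γ(B, V), P v = 0 ↔ v ∈ LinearMap.range (appLinear φ V) := by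
      intro v
      constructor
      · intro h
        exact exact_app hA hB φ hV v h
      · rintro ⟨q, rfl⟩
        exact congrArg (fun t => (t.app V).hom q) (cokernel.condition φ)
    rw [h4]
    have h5 : LinearMap.range (appLinear φ V) = Submodule.span Γ(X, V) (Set.range fun j => φ.app V (e j)) := by
      rw [LinearMap.range_eq_map, ← e.span_eq, ← Submodule.span_image, ← Set.range_comp]
      rfl
    rw [h5]
    have h6 : (Set.range fun j : γ => fun i => mat e f φ (g i) j) = f'.equivFun '' (Set.range fun j => φ.app V (e j)) := by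
      rw [← Set.range_comp]
      congr 1
      funext j i
      rw [mat_apply]
      simp [f', g]
    have h7 : c = f'.equivFun (∑ i, c i • f' i) := by
      rw [← f'.equivFun_symm_apply, LinearEquiv.apply_symm_apply]
    rw [h6]
    conv_rhs => rw [h7]
    rw [← LinearEquiv.coe_coe, ← Submodule.map_span]
    constructor
    · intro h
      exact ⟨_, h, rfl⟩
    · rintro ⟨y, hy, hyx⟩
      have h8 := f'.equivFun.injective hyx
      rwa [← h8]

end Mat

end K360.DegenChart
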