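import Groth.Agent.Coherent.K360.DegenSmooth
import Groth.Agent.Variety.K427.GenSmoothZero
import Mathlib.RingTheory.Smooth.StandardSmooth
import Mathlib.RingTheory.Noetherian.Basic

/-!
# Smoothness of the strata of the determinantal loci of a general member

* `exists_poly_smooth`: generic smoothness for an algebra over affine space, fibrewise form.
* `isPushout_chart`: the fibre of the universal chart.
* `smooth_general`: for general `t` the locus of rank exactly `r` of `∑ t l • N l` is smooth (in charts).
-/

set_option autoImplicit false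
universe u

open CategoryTheory CategoryTheory.Limits AlgebraicGeometry

namespace K360.DegenFibre

open K821.Minors K360.DegenRing K360.DegenSmooth

/-- Base change of a restriction. -/
theorem exists_isPullback_restrict {P W G T : Scheme.{u}} {j : P ⟶ W} {t : P ⟶ T} {q : W ⟶ G} {σ : T ⟶ G}
    (h : IsPullback j t q σ) (V : G.Opens) (hσ : Set.range σ ⊆ (V : Set G)) :
    ∃ (j' : P ⟶ (q ⁻¹ᵁ V : W.Opens)) (σ' : T ⟶ V), IsPullback j' t (q ∣_ V) σ' := by
  have hr : Set.range σ ⊆ Set.range V.ι := by rwa [Scheme.Opens.range_ι]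
  let σ' : T ⟶ V := IsOpenImmersion.lift V.ι σ hr
  have hσ' : σ' ≫ V.ι = σ := IsOpenImmersion.lift_fac _ _ _
  have h1 := (isPullback_morphismRestrict q V).flip
  let j' : P ⟶ (q ⁻¹ᵁ V : W.Opens) := h1.lift j (t ≫ σ') (by rw [Category.assoc, hσ', h.w])
  refine ⟨j', σ', IsPullback.of_right (h₁₂ := (q ⁻¹ᵁ V).ι) (v₁₃ := q) (h₂₂ := V.ι) ?_ (h1.lift_snd _ _ _) h1⟩
  rw [hσ', h1.lift_fst]
  exact h

/-- **Generic smoothness over affine space, in terms of the fibres over the `k`-points.** -/
theorem exists_poly_smooth {k : Type u} [Field k] [CharZero k] {m : ℕ} {T : Type u} [CommRing T] [Algebra k T]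
    [Algebra.Smooth k T] (θ : MvPolynomial (Fin m) k →ₐ[k] T) :
    ∃ p : MvPolynomial (Fin m) k, p ≠ 0 ∧ ∀ t : Fin m → k, MvPolynomial.eval t p ≠ 0 →
      ∀ (S : Type u) [CommRing S] [Algebra k S] (σ : T →+* S),
        IsPushout (CommRingCat.ofHom (θ : MvPolynomial (Fin m) k →+* T)) (CommRingCat.ofHom (MvPolynomial.eval t))
          (CommRingCat.ofHom σ) (CommRingCat.ofHom (algebraMap k S)) →
        Smooth (Spec.map (CommRingCat.ofHom (algebraMap k S))) := by
  let P := MvPolynomial (Fin m) k
  let f : Spec (CommRingCat.of T) ⟶ Spec (CommRingCat.of P) := Spec.map (CommRingCat.ofHom (θ : P →+* T))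
  let qX : Spec (CommRingCat.of T) ⟶ Spec (CommRingCat.of k) := Spec.map (CommRingCat.ofHom (algebraMap k T))
  let qY : Spec (CommRingCat.of P) ⟶ Spec (CommRingCat.of k) := Spec.map (CommRingCat.ofHom (algebraMap k P))
  have hf : f ≫ qY = qX := by
    rw [← Spec.map_comp, ← CommRingCat.ofHom_comp]
    congr 2
    exact θ.comp_algebraMap
  have hqX : Smooth qX := by
    rw [HasRingHomProperty.Spec_iff (P := @Smooth)]
    exact (RingHom.smooth_algebraMap).2 inferInstance
  have hqY : LocallyOfFiniteType qY := by
    rw [HasRingHomProperty.Spec_iff (P := @LocallyOfFiniteType)]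
    exact (RingHom.finiteType_algebraMap).2 inferInstance
  obtain ⟨V, hV, hsm⟩ := K427.GenSmooth.exists_open_smooth_preimage k qX qY f hf
  obtain ⟨x, hx⟩ := hV
  obtain ⟨_, ⟨_, ⟨p, rfl⟩, rfl⟩, hxp, hpV⟩ := (PrimeSpectrum.isBasis_basic_opens (R := P)).exists_subset_of_mem_open hx V.2
  refine ⟨p, fun h0 => ?_, fun t ht S _ _ σ hσ => ?_⟩
  · rw [h0] at hxp
    exact hxp (Ideal.zero_mem _)
  · have h1 := isPullback_SpecMap_of_isPushout _ _ _ _ hσ
    obtain ⟨j', σ', h2⟩ := exists_isPullback_restrict h1 V (by
      rintro _ ⟨y, rfl⟩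
      refine hpV ?_
      intro h3
      have h4 : MvPolynomial.eval t p ∈ y.asIdeal := h3
      exact y.2.ne_top (Ideal.eq_top_of_isUnit_mem _ h4 (IsUnit.mk0 _ ht)))
    exact MorphismProperty.of_isPullback (P := @Smooth) h2 hsm

section Push

variable {k : Type u} [Field k] {R : Type u} [CommRing R] [Algebra k R] {m r : ℕ} {ρ γ : Type*}

/-- The structure map of the universal chart over the polynomial ring over `k`. -/
noncomputable def theta (N : Fin m → Matrix ρ γ R) (a : Fin r → ρ) (b : Fin r → γ) :
    MvPolynomial (Fin m) k →ₐ[k] Chart N a b :=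
  (Algebra.algHom k (MvPolynomial (Fin m) R) (Chart N a b)).comp
    (MvPolynomial.mapAlgHom (Algebra.ofId k R))

theorem theta_apply (N : Fin m → Matrix ρ γ R) (a : Fin r → ρ) (b : Fin r → γ) (f : MvPolynomial (Fin m) k) :
    theta N a b f = algebraMap (MvPolynomial (Fin m) R) (Chart N a b) (MvPolynomial.map (algebraMap k R) f) := rfl

theorem eval_map_eq (t : Fin m → k) (f : MvPolynomial (Fin m) k) :
    MvPolynomial.eval (fun l => algebraMap k R (t l)) (MvPolynomial.map (algebraMap k R) f) =
      algebraMap k R (MvPolynomial.eval t f) := by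
  induction f using MvPolynomial.induction_on with
  | C a => simp
  | add x y hx hy => simp only [map_add, hx, hy]
  | mul_X x l hx => simp only [map_mul, hx, MvPolynomial.map_X, MvPolynomial.eval_X]

variable (N : Fin m → Matrix ρ γ R) (a : Fin r → ρ) (b : Fin r → γ) (t : Fin m → k)
  (A : Type u) [CommRing A] [Algebra R A] [Algebra k A] [IsScalarTower k R A]
  [IsLocalization.Away ((mem N fun l => algebraMap k R (t l)).submatrix a b).det A]

/-- The chart of the locus of rank exactly `r` of a member. -/
abbrev FibChart : Type u := A ⧸ (minorIdeal (r + 1) (mem N fun l => algebraMap k R (t l))).map (algebraMap R A)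

theorem isPushout_chart :
    ∃ σ : Chart N a b →+* FibChart (r := r) N t A,
      IsPushout (CommRingCat.ofHom ((theta (k := k) N a b : MvPolynomial (Fin m) k →ₐ[k] Chart N a b) :
          MvPolynomial (Fin m) k →+* Chart N a b)) (CommRingCat.ofHom (MvPolynomial.eval t))
        (CommRingCat.ofHom σ) (CommRingCat.ofHom (algebraMap k (FibChart (r := r) N t A))) := by
  let S := FibChart (r := r) N t A
  let ev : MvPolynomial (Fin m) R →+* R := MvPolynomial.eval fun l => algebraMap k R (t l)
  have hdet : ev (delta N a b) = ((mem N fun l => algebraMap k R (t l)).submatrix a b).det := by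
    rw [← gen_map]
    exact submatrix_map ev (gen N) a b
  have hmin : minorIdeal (r + 1) (mem N fun l => algebraMap k R (t l)) = (minorIdeal (r + 1) (gen N)).map ev := by
    rw [← minorIdeal_map, gen_map]
  obtain ⟨σ, hσ⟩ := exists_hom N a b ((algebraMap R S).comp ev)
    (by
      rw [RingHom.comp_apply, hdet, IsScalarTower.algebraMap_apply R A S]
      exact (IsLocalization.Away.algebraMap_isUnit _).map _)
    (fun x hx => by
      rw [RingHom.comp_apply, IsScalarTower.algebraMap_apply R A S]
      refine Ideal.Quotient.eq_zero_iff_mem.2 (Ideal.mem_map_of_mem _ ?_)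
      rw [hmin]
      exact Ideal.mem_map_of_mem _ hx)
  have hσ' : ∀ x, σ (algebraMap (MvPolynomial (Fin m) R) (Chart N a b) x) = algebraMap R S (ev x) := fun x =>
    RingHom.congr_fun hσ x
  refine ⟨σ, ?_⟩
  have hw : CommRingCat.ofHom ((theta (k := k) N a b : MvPolynomial (Fin m) k →ₐ[k] Chart N a b) :
      MvPolynomial (Fin m) k →+* Chart N a b) ≫ CommRingCat.ofHom σ =
        CommRingCat.ofHom (MvPolynomial.eval t) ≫ CommRingCat.ofHom (algebraMap k S) := by
    rw [← CommRingCat.ofHom_comp, ← CommRingCat.ofHom_comp]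
    congr 1
    refine RingHom.ext fun f => ?_
    rw [RingHom.comp_apply, RingHom.comp_apply]
    change σ (theta N a b f) = _
    rw [theta_apply, hσ', IsScalarTower.algebraMap_apply k R S]
    congr 1
    exact eval_map_eq t f
  -- the descended map
  have key : ∀ s : PushoutCocone (CommRingCat.ofHom ((theta (k := k) N a b : MvPolynomial (Fin m) k →ₐ[k] Chart N a b) :
      MvPolynomial (Fin m) k →+* Chart N a b)) (CommRingCat.ofHom (MvPolynomial.eval t)),
      ∃ d : S →+* s.pt, (∀ x, d (σ x) = s.inl x) ∧ (∀ c, d (algebraMap k S c) = s.inr c) ∧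
        ∀ d' : S →+* s.pt, (∀ x, d' (σ x) = s.inl x) → d' = d := by
    intro s
    have hs : ∀ f : MvPolynomial (Fin m) k, s.inl.hom (theta N a b f) = s.inr.hom (MvPolynomial.eval t f) := fun f =>
      congr($(s.condition).hom f)
    let h₀ : R →+* s.pt := s.inl.hom.comp (algebraMap R (Chart N a b))
    have h1 : ∀ x, s.inl.hom (algebraMap (MvPolynomial (Fin m) R) (Chart N a b) x) = h₀ (ev x) := by
      intro x
      have h2 : s.inl.hom.comp (algebraMap (MvPolynomial (Fin m) R) (Chart N a b)) = h₀.comp ev := by
        apply MvPolynomial.ringHom_ext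
        · intro c
          rw [RingHom.comp_apply, RingHom.comp_apply]
          change _ = h₀ (MvPolynomial.eval _ _)
          rw [MvPolynomial.eval_C]
          rfl
        · intro l
          rw [RingHom.comp_apply, RingHom.comp_apply]
          change _ = h₀ (MvPolynomial.eval _ _)
          rw [MvPolynomial.eval_X]
          have h3 := hs (MvPolynomial.X l)
          rw [theta_apply, MvPolynomial.map_X, MvPolynomial.eval_X] at h3
          rw [h3]
          have h4 := hs (MvPolynomial.C (t l))
          rw [theta_apply, MvPolynomial.map_C, MvPolynomial.eval_C] at h4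
          rw [← h4]
          rfl
      exact RingHom.congr_fun h2 x
    have hu : IsUnit (h₀ ((mem N fun l => algebraMap k R (t l)).submatrix a b).det) := by
      rw [← hdet, ← h1]
      exact (isUnit_delta N a b).map _
    let dA : A →+* s.pt := IsLocalization.Away.lift ((mem N fun l => algebraMap k R (t l)).submatrix a b).det hu
    have hdA : ∀ x, dA (algebraMap R A x) = h₀ x := fun x => IsLocalization.Away.lift_eq _ hu x
    have hle : (minorIdeal (r + 1) (mem N fun l => algebraMap k R (t l))).map (algebraMap R A) ≤ RingHom.ker dA := by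
      rw [Ideal.map_le_iff_le_comap, hmin, Ideal.map_le_iff_le_comap]
      intro x hx
      rw [Ideal.mem_comap, Ideal.mem_comap, RingHom.mem_ker, hdA, ← h1, minor_eq_zero N a b x hx, map_zero]
    let d : S →+* s.pt := Ideal.Quotient.lift _ dA fun x hx => hle hx
    have hd : ∀ x, d (algebraMap R S x) = h₀ x := fun x => hdA x
    refine ⟨d, fun x => ?_, fun c => ?_, fun d' hd' => ?_⟩
    · have h2 : d.comp σ = s.inl.hom := by
        apply DegenSmooth.hom_ext N a b
        refine RingHom.ext fun x => ?_
        rw [RingHom.comp_apply, RingHom.comp_apply, RingHom.comp_apply, hσ', hd, h1]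
      exact RingHom.congr_fun h2 x
    · rw [IsScalarTower.algebraMap_apply k R S, hd]
      have h3 := hs (MvPolynomial.C c)
      rw [theta_apply, MvPolynomial.map_C, MvPolynomial.eval_C] at h3
      exact h3
    · refine Ideal.Quotient.ringHom_ext ?_
      refine IsLocalization.ringHom_ext
        (Submonoid.powers ((mem N fun l => algebraMap k R (t l)).submatrix a b).det) ?_
      refine RingHom.ext fun x => ?_
      have h3 := hσ' (MvPolynomial.C x)
      have h4 : ev (MvPolynomial.C x) = x := MvPolynomial.eval_C x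
      rw [h4] at h3
      change d' (algebraMap R S x) = d (algebraMap R S x)
      rw [← h3, hd']
      change s.inl.hom _ = d (σ _)
      rw [h3, hd, h1, h4]
  choose d hd1 hd2 hd3 using key
  refine ⟨⟨hw⟩, ⟨PushoutCocone.IsColimit.mk hw (fun s => CommRingCat.ofHom (d s)) (fun s => ?_) (fun s => ?_)
    (fun s e he1 he2 => ?_)⟩⟩
  · ext x
    exact hd1 s x
  · ext x
    exact hd2 s x
  · apply CommRingCat.hom_ext
    exact hd3 s e.hom fun x => congr($(he1).hom x)

/-- **Smoothness of the stratum of rank exactly `r` of a general member.** -/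
theorem smooth_general [CharZero k] [Algebra.Smooth k R] [Fintype ρ] [Fintype γ] [DecidableEq ρ] [DecidableEq γ]
    (N : Fin m → Matrix ρ γ R)
    (hspan : ∀ x : ρ × γ, ∃ c : Fin m → R, ∀ y : ρ × γ, ∑ l, c l * N l y.1 y.2 = if y = x then 1 else 0)
    (a : Fin r → ρ) (b : Fin r → γ) :
    ∃ p : MvPolynomial (Fin m) k, p ≠ 0 ∧ ∀ t : Fin m → k, MvPolynomial.eval t p ≠ 0 →
      ∀ (A : Type u) [CommRing A] [Algebra R A] [Algebra k A] [IsScalarTower k R A]
        [IsLocalization.Away ((mem N fun l => algebraMap k R (t l)).submatrix a b).det A],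
        Smooth (Spec.map (CommRingCat.ofHom (algebraMap k (FibChart (r := r) N t A)))) := by
  have h1 : Algebra.FormallySmooth R (Chart N a b) := formallySmooth N hspan a b
  have h2 : Algebra.FormallySmooth k (Chart N a b) := Algebra.FormallySmooth.comp k R (Chart N a b)
  have hft : Algebra.FiniteType k R := inferInstance
  have hft2 : Algebra.FiniteType R (Chart N a b) := by
    have : Algebra.FiniteType (MvPolynomial (Fin m) R) (Loc N a b) :=
      IsLocalization.finiteType_of_monoid_fg (Submonoid.powers (delta N a b)) _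
    have : Algebra.FiniteType R (Loc N a b) := Algebra.FiniteType.trans (S := MvPolynomial (Fin m) R) inferInstance inferInstance
    infer_instance
  have hft3 : Algebra.FiniteType k (Chart N a b) := Algebra.FiniteType.trans (S := R) inferInstance inferInstance
  have hfp : Algebra.FinitePresentation k (Chart N a b) := Algebra.FinitePresentation.of_finiteType.1 hft3
  have hsm : Algebra.Smooth k (Chart N a b) := { }
  obtain ⟨p, hp0, hp⟩ := exists_poly_smooth (theta (k := k) N a b)
  refine ⟨p, hp0, fun t ht A _ _ _ _ _ => ?_⟩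
  obtain ⟨σ, hσ⟩ := isPushout_chart N a b t A
  exact hp t ht _ σ hσ

end Push

end K360.DegenFibre
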