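import Groth.Agent.Coherent.K360.DegenStrat
import Groth.Agent.Fga.TwistGr
import Groth.Agent.IntTh.K711.ProjDim
import Groth.Agent.Coherent.K54.HodgePn
import Groth.Agent.Sga2.TwIt
import Groth.Agent.Ega3B.ProjProper
import Groth.Agent.S10962

/-!
# General morphisms with locally free cokernel

* `mono_and_locFree`: no point in the locus of the maximal minors: monomorphism with locally free cokernel.
* `linSpan_twist`: the morphisms `O(a) ⟶ O(a + d)` generate all linear maps locally, `d ≥ 0`.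
-/

set_option autoImplicit false
universe u

open CategoryTheory CategoryTheory.Limits AlgebraicGeometry TopologicalSpace Opposite

namespace K360.DegenFree

open Groth.Agent K360.DegenChart K360.DegenRing K360.DegenGen K821.Minors K716.Td Groth.Agent.CohqB.FiniteType2

section Mono

variable {X : Scheme.{u}} {A B : X.Modules} {a b : ℕ}

theorem mulVec_injective {R : Type*} [CommRing R] [IsDomain R] {ρ γ : Type*} [Fintype γ]
    (M : Matrix ρ γ R) (h : minorIdeal (Fintype.card γ) M ≠ ⊥) (v : γ → R) (hv : M.mulVec v = 0) : v = 0 := by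
  obtain ⟨f, g, hfg⟩ : ∃ (f : Fin (Fintype.card γ) → ρ) (g : Fin (Fintype.card γ) → γ), (M.submatrix f g).det ≠ 0 := by
    by_contra hcon
    push Not at hcon
    apply h
    rw [_root_.eq_bot_iff, minorIdeal_le_iff]
    exact fun e f => by rw [hcon, Ideal.mem_bot]
  have hg : Function.Bijective g := (Fintype.bijective_iff_injective_and_card g).2
    ⟨DegenHeight.injective_right_of_det_ne_zero M f g hfg, by simp⟩
  have h1 : (M.submatrix f g).mulVec (v ∘ g) = 0 := by
    ext i
    have h2 := congrFun hv (f i)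
    rw [Matrix.mulVec, dotProduct, Pi.zero_apply] at h2
    rw [Matrix.mulVec, dotProduct, Pi.zero_apply, ← h2]
    exact (Equiv.ofBijective g hg).sum_comp (fun j => M (f i) j * v j)
  have h3 := Matrix.eq_zero_of_mulVec_eq_zero hfg h1
  funext j
  obtain ⟨i, rfl⟩ := hg.2 j
  exact congrFun h3 i

theorem ideal_eq_top_of_support (I : X.IdealSheafData) (h : ∀ x, x ∉ I.support) {V : X.Opens} (hV : IsAffineOpen V) :
    I.ideal ⟨V, hV⟩ = ⊤ := by
  by_contra hne
  obtain ⟨m, hm, hle⟩ := Ideal.exists_le_maximal _ hne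
  let z : PrimeSpectrum Γ(X, V) := ⟨m, hm.isPrime⟩
  let x : X := hV.fromSpec z
  have hxV : x ∈ V := by
    have h5 : x ∈ Set.range hV.fromSpec := ⟨z, rfl⟩
    rwa [hV.range_fromSpec] at h5
  have hz : hV.primeIdealOf ⟨x, hxV⟩ = z :=
    hV.fromSpec.isOpenEmbedding.injective (hV.fromSpec_primeIdealOf ⟨x, hxV⟩)
  refine h x ?_
  rw [SDiv.K474.FittLoc.mem_support_iff_le I hV hxV, hz]
  exact hle

/-- **No drop of rank: monomorphism with locally free cokernel.** -/
theorem mono_and_locFree [AlgebraicGeometry.IsIntegral X] (hA : FlatMod.IsFinLocFreeOfRank a A)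
    (hB : FlatMod.IsFinLocFreeOfRank b B) (hab : a ≤ b) (φ : A ⟶ B)
    (h : ∀ x, x ∉ (Fitt.sheafIdeal (cokernel φ) (b - a)).support) :
    Mono φ ∧ FlatMod.IsFinLocFreeOfRank (b - a) (cokernel φ) := by
  have hAq : Coh.IsQCoh A := (isCoh_of_rank hA).1
  have hBc : Coh.IsCoh B := isCoh_of_rank hB
  have hq : Coh.IsQCoh (cokernel φ) := PerfA.QCohSerre.isQCoh_cokernel _ hAq hBc.1
  have hft := CohqB.LocalQC.isFT_of_epi (cokernel.π φ) hBc.2
  constructor
  · refine Sga2.TwIt.mono_of_injective φ fun U => ?_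
    change Function.Injective (appLinear φ U)
    rw [injective_iff_map_eq_zero]
    intro s hs
    refine VarietyB.TensLoc.eq_of_locally (M := A) _ _ fun x hx => ?_
    obtain ⟨U₁, hx₁, hU₁⟩ := exists_basis_nhds hA x
    obtain ⟨U₂, hx₂, hU₂⟩ := exists_basis_nhds hB x
    obtain ⟨V, hV, hxV, hVU⟩ := exists_isAffineOpen_mem_and_subset (x := x) (U := (U₁ ⊓ U₂) ⊓ U) ⟨⟨hx₁, hx₂⟩, hx⟩
    obtain ⟨e⟩ := hU₁ V (hVU.trans (inf_le_left.trans inf_le_left))
    obtain ⟨f⟩ := hU₂ V (hVU.trans (inf_le_left.trans inf_le_right))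
    have hle : V ≤ U := hVU.trans inf_le_right
    refine ⟨V, hle, hxV, ?_⟩
    let s' : Γ(A, V) := A.presheaf.map (homOfLE hle).op s
    have h0 : A.presheaf.map (homOfLE hle).op (0 : Γ(A, U)) = 0 := map_zero _
    refine Eq.trans (?_ : s' = 0) h0.symm
    have hs' : appLinear φ V s' = 0 := by
      have h1 : φ.app V (A.presheaf.map (homOfLE hle).op s) = B.presheaf.map (homOfLE hle).op (φ.app U s) :=
        congr($(φ.mapPresheaf.naturality (homOfLE hle).op) s)
      have h2 : φ.app U s = 0 := hs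
      rw [h2, map_zero] at h1
      exact h1
    have hne : Nonempty V := ⟨⟨x, hxV⟩⟩
    have hdom : IsDomain Γ(X, V) := inferInstance
    have h3 := fitt_ideal e f hAq hBc.1 hBc.2 φ hV (b - a)
    rw [ideal_eq_top_of_support _ h hV] at h3
    have h4 : Fintype.card (Fin b) - (b - a) = Fintype.card (Fin a) := by
      simp only [Fintype.card_fin]
      omega
    rw [h4] at h3
    have h5 : (mat e f φ).mulVec (e.repr s') = 0 := by
      rw [mat, LinearMap.toMatrix_mulVec_repr, hs', map_zero]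
      rfl
    have h6 := mulVec_injective (mat e f φ) (by rw [← h3]; exact top_ne_bot) _ h5
    have h7 : e.repr s' = 0 := by
      ext i
      exact congrFun h6 i
    exact (LinearEquiv.map_eq_zero_iff _).1 h7
  · refine SDiv.K474.FittLoc.isFinLocFreeOfRank_of_fitting (cokernel φ) hq hft (b - a) (fun k hk => ?_) h
    refine Divis.IdealComap.ext_of_forall_mem fun x => ?_
    obtain ⟨U₁, hx₁, hU₁⟩ := exists_basis_nhds hA x
    obtain ⟨U₂, hx₂, hU₂⟩ := exists_basis_nhds hB x
    obtain ⟨V, hV, hxV, hVU⟩ := exists_isAffineOpen_mem_and_subset (x := x) (U := U₁ ⊓ U₂) ⟨hx₁, hx₂⟩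
    obtain ⟨e⟩ := hU₁ V (hVU.trans inf_le_left)
    obtain ⟨f⟩ := hU₂ V (hVU.trans inf_le_right)
    refine ⟨⟨V, hV⟩, hxV, ?_⟩
    rw [fitt_ideal e f hAq hBc.1 hBc.2 φ hV k]
    refine (minorIdeal_eq_bot_of_card_lt_right _ _ ?_).trans rfl
    rw [Fintype.card_fin, Fintype.card_fin]
    omega

end Mono

section Twist

variable (n : ℕ) (k : Type u) [CommRing k]

theorem exists_hom_bijective (i : Fin (n + 1)) (a : ℤ) (d : ℕ) (c : ℤ) (hc : c = a + d) :
    ∃ φ : Twist.twistProjSpace n k a ⟶ Twist.twistProjSpace n k c,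
      ∀ V : (CohB1.ProjSpace n k).Opens, V ≤ Fga.TwistGr.dplus n k i → Function.Bijective (appLinear φ V) := by
  induction d generalizing c with
  | zero =>
    obtain rfl : c = a := by simpa using hc
    exact ⟨𝟙 _, fun V _ => Function.bijective_id⟩
  | succ d ih =>
    obtain ⟨φ, hφ⟩ := ih (a + d) rfl
    obtain rfl : c = a + d + 1 := by rw [hc]; push_cast; ring
    refine ⟨φ ≫ Fga.TwistGr.mulVar n k i _, fun V hV => ?_⟩
    rw [appLinear_comp]
    exact (Fga.TwistGr.mulVar_app_bijective i _ V hV).comp (hφ V hV)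

/-- The morphisms `O(a) ⟶ O(a + d)` generate all linear maps, near every point. -/
theorem linSpan_twist (a : ℤ) (d : ℕ) (c : ℤ) (hc : c = a + d) (x : CohB1.ProjSpace n k) :
    ∃ U : (CohB1.ProjSpace n k).Opens, x ∈ U ∧ ∀ V : (CohB1.ProjSpace n k).Opens, V ≤ U →
      LinSpan (Twist.twistProjSpace n k a) (Twist.twistProjSpace n k c) V := by
  obtain ⟨i, hi⟩ := Fga.TwistGr.exists_mem_dplus x
  obtain ⟨φ, hφ⟩ := exists_hom_bijective n k i a d c hc
  obtain ⟨U₁, hx₁, hU₁⟩ := exists_basis_nhds (K54.HodgePn.rank_one (n := n) (A := k) a) x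
  refine ⟨Fga.TwistGr.dplus n k i ⊓ U₁, ⟨hi, hx₁⟩, fun V hV => ?_⟩
  obtain ⟨e⟩ := hU₁ V (hV.trans inf_le_right)
  exact linSpan_of_bijective φ (hφ V (hV.trans inf_le_left)) e

theorem linSpan_iso {X : Scheme.{u}} {A B B' : X.Modules} (i : B ≅ B') {V : X.Opens} (h : LinSpan A B V) :
    LinSpan A B' V := by
  intro T
  have h1 : T = (appLinear i.hom V).comp (((appLinear i.inv V).comp T).comp (appLinear (𝟙 A) V)) := by
    have h2 : appLinear (i.inv ≫ i.hom) V = appLinear (𝟙 B') V := by rw [i.inv_hom_id]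
    have h3 : T = (appLinear (𝟙 B') V).comp T := rfl
    conv_lhs => rw [h3, ← h2]
    rfl
  rw [h1]
  exact comp_mem_span (h _) _ _

end Twist

end K360.DegenFree
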