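import Groth.Agent.QuotLF.K821.Minors
import Groth.Agent.CalgC.DimFT
import Mathlib.RingTheory.Ideal.KrullsHeightTheorem
import Mathlib.LinearAlgebra.Matrix.Determinant.Misc

/-!
# The height of a minimal prime of a determinantal ideal at a point of exact rank

* `height_le`: a prime minimal over the ideal of `(r + 1)`-minors which does not contain some `r`-minor has
  height at most `(#ρ - r) (#γ - r)`.
* `le_ringKrullDim_quotient`: the dimension form in a domain of finite type over a field.
-/

set_option autoImplicit false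
universe u

namespace K360.DegenHeight

open K821.Minors

section Border

variable {A : Type*} [CommRing A] {ι κ : Type*} {r : ℕ}

/-- expansion of a vanishing bordered minor -/
theorem bordered (σ : Matrix ι κ A) (ρ : Fin r → ι) (c : Fin r → κ) (i : ι) (j : κ)
    (h1 : (σ.submatrix (Fin.cons i ρ : Fin (r + 1) → ι) (Fin.cons j c : Fin (r + 1) → κ)).det = 0) :
    (σ.submatrix ρ c).det * σ i j = ∑ k, (σ.submatrix (Function.update ρ k i) c).det * σ (ρ k) j := by
  rw [Matrix.det_succ_column_zero, Fin.sum_univ_succ] at h1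
  have h3 : ∀ k : Fin r, ((σ.submatrix (Fin.cons i ρ : Fin (r + 1) → ι) (Fin.cons j c : Fin (r + 1) → κ)).submatrix
      k.succ.succAbove Fin.succ).det = (-1) ^ (k : ℕ) * (σ.submatrix (Function.update ρ k i) c).det := by
    intro k
    have h4 : σ.submatrix (Function.update ρ k i) c =
        ((σ.submatrix (Fin.cons i ρ : Fin (r + 1) → ι) (Fin.cons j c : Fin (r + 1) → κ)).submatrix
          k.succ.succAbove Fin.succ).submatrix k.cycleRange id := by
      ext a b
      simp only [Matrix.submatrix_apply, Fin.succAbove_cycleRange, id, Fin.cons_succ]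
      congr 1
      by_cases hak : a = k
      · subst hak
        rw [Function.update_self, Equiv.swap_apply_right, Fin.cons_zero]
      · rw [Function.update_of_ne hak, Equiv.swap_apply_of_ne_of_ne (Fin.succ_ne_zero a)
          (fun h => hak (Fin.succ_injective _ h)), Fin.cons_succ]
    rw [h4, Matrix.det_permute, Fin.sign_cycleRange]
    have h5 : ((((-1 : ℤˣ) ^ (k : ℕ) : ℤˣ) : ℤ) : A) = (-1 : A) ^ (k : ℕ) := by
      push_cast
      rfl
    rw [h5, ← mul_assoc, ← mul_pow]
    simp
  have h6 : ((σ.submatrix (Fin.cons i ρ : Fin (r + 1) → ι) (Fin.cons j c : Fin (r + 1) → κ)).submatrix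
      (Fin.succAbove 0) Fin.succ) = σ.submatrix ρ c := by
    ext a b
    simp
  rw [h6] at h1
  simp only [h3, Matrix.submatrix_apply, Fin.cons_zero, Fin.cons_succ, Fin.val_zero, pow_zero, one_mul,
    Fin.val_succ] at h1
  rw [mul_comm, eq_neg_of_add_eq_zero_left h1, ← Finset.sum_neg_distrib]
  refine Finset.sum_congr rfl fun k _ => ?_
  have h7 : (-1 : A) ^ (k : ℕ) * (-1 : A) ^ (k : ℕ) = 1 := by
    rw [← mul_pow]
    simp
  linear_combination (σ (ρ k) j * (σ.submatrix (Function.update ρ k i) c).det) * h7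

/-- If all bordered minors of a nonzerodivisor `r`-minor vanish, then all `(r + 1)`-minors vanish. -/
theorem minorIdeal_eq_bot (σ : Matrix ι κ A) (ρ : Fin r → ι) (c : Fin r → κ)
    (hδ : (σ.submatrix ρ c).det ∈ nonZeroDivisors A)
    (h1 : ∀ i j, (σ.submatrix (Fin.cons i ρ : Fin (r + 1) → ι) (Fin.cons j c : Fin (r + 1) → κ)).det = 0) :
    minorIdeal (r + 1) σ = ⊥ := by
  let G : Matrix ι (Fin r) A := Matrix.of fun i k => (σ.submatrix (Function.update ρ k i) c).det
  have hσ : (σ.submatrix ρ c).det • σ = G * σ.submatrix ρ id := by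
    ext i j
    rw [Matrix.smul_apply, smul_eq_mul, bordered σ ρ c i j (h1 i j), Matrix.mul_apply]
    rfl
  rw [eq_bot_iff, minorIdeal_le_iff]
  intro e f
  have h2 := minorIdeal_mul_le_right (r + 1) G (σ.submatrix ρ id)
    (minor_mem (r + 1) (G * σ.submatrix ρ id) e f)
  rw [minorIdeal_eq_bot_of_card_lt_left (r + 1) (σ.submatrix ρ id) (by simp), Ideal.mem_bot, ← hσ] at h2
  have h3 : ((σ.submatrix ρ c).det • σ).submatrix e f = (σ.submatrix ρ c).det • σ.submatrix e f := rfl
  rw [h3, Matrix.det_smul] at h2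
  rw [Ideal.mem_bot]
  exact (mul_left_mem_nonZeroDivisors_eq_zero_iff (pow_mem hδ _)).1 h2

theorem det_cons_eq_zero (σ : Matrix ι κ A) (ρ : Fin r → ι) (c : Fin r → κ) (i : ι) (j : κ)
    (h : i ∈ Set.range ρ ∨ j ∈ Set.range c) :
    (σ.submatrix (Fin.cons i ρ : Fin (r + 1) → ι) (Fin.cons j c : Fin (r + 1) → κ)).det = 0 := by
  rcases h with ⟨k, hk⟩ | ⟨k, hk⟩
  · refine Matrix.det_zero_of_row_eq (i := 0) (j := k.succ) (Ne.symm (Fin.succ_ne_zero k)) ?_
    ext b
    rw [Matrix.submatrix_apply, Matrix.submatrix_apply, Fin.cons_zero, Fin.cons_succ, hk]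
  · refine Matrix.det_zero_of_column_eq (i := 0) (j := k.succ) (Ne.symm (Fin.succ_ne_zero k)) ?_
    intro b
    rw [Matrix.submatrix_apply, Matrix.submatrix_apply, Fin.cons_zero, Fin.cons_succ, hk]

theorem injective_left_of_det_ne_zero (σ : Matrix ι κ A) (ρ : Fin r → ι) (c : Fin r → κ)
    (h : (σ.submatrix ρ c).det ≠ 0) : Function.Injective ρ := by
  intro i j hij
  by_contra hne
  refine h (Matrix.det_zero_of_row_eq hne ?_)
  ext b
  rw [Matrix.submatrix_apply, Matrix.submatrix_apply, hij]

theorem injective_right_of_det_ne_zero (σ : Matrix ι κ A) (ρ : Fin r → ι) (c : Fin r → κ)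
    (h : (σ.submatrix ρ c).det ≠ 0) : Function.Injective c := by
  intro i j hij
  by_contra hne
  refine h (Matrix.det_zero_of_column_eq hne ?_)
  intro b
  rw [Matrix.submatrix_apply, Matrix.submatrix_apply, hij]

end Border

/-- **Height of the minimal primes at points of rank exactly `r`.** -/
theorem height_le {R : Type u} [CommRing R] [IsNoetherianRing R] {ι κ : Type*} [Fintype ι] [Fintype κ] {r : ℕ}
    (M : Matrix ι κ R) (p : Ideal R) (hp : p ∈ (minorIdeal (r + 1) M).minimalPrimes) (a : Fin r → ι) (b : Fin r → κ)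
    (hδ : (M.submatrix a b).det ∉ p) :
    p.height ≤ ((Fintype.card ι - r) * (Fintype.card κ - r) : ℕ) := by
  classical
  have hpp : p.IsPrime := hp.1.1
  have hδ0 : (M.submatrix a b).det ≠ 0 := fun h => hδ (h ▸ p.zero_mem)
  let s : Finset (ι × κ) := (Finset.univ.image a)ᶜ ×ˢ (Finset.univ.image b)ᶜ
  let g : ι × κ → R := fun x =>
    (M.submatrix (Fin.cons x.1 a : Fin (r + 1) → ι) (Fin.cons x.2 b : Fin (r + 1) → κ)).det
  have hle : Ideal.span ((s.image g : Finset R) : Set R) ≤ p := by
    rw [Ideal.span_le]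
    rintro _ hx
    obtain ⟨x, -, rfl⟩ := Finset.mem_image.1 hx
    exact hp.1.2 (minor_mem _ _ _ _)
  obtain ⟨q, hq, hqp⟩ := Ideal.exists_minimalPrimes_le hle
  have hqq : q.IsPrime := hq.1.1
  have h1 : minorIdeal (r + 1) (M.map (Ideal.Quotient.mk q)) = ⊥ := by
    refine minorIdeal_eq_bot _ a b ?_ fun i j => ?_
    · have h2 : ((M.map (Ideal.Quotient.mk q)).submatrix a b).det = Ideal.Quotient.mk q (M.submatrix a b).det := by
        rw [RingHom.map_det]
        rfl
      rw [h2, mem_nonZeroDivisors_iff_ne_zero]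
      intro h3
      exact hδ (hqp (Ideal.Quotient.eq_zero_iff_mem.1 h3))
    · have h2 : ((M.map (Ideal.Quotient.mk q)).submatrix (Fin.cons i a : Fin (r + 1) → ι)
          (Fin.cons j b : Fin (r + 1) → κ)).det = Ideal.Quotient.mk q (g (i, j)) := by
        rw [RingHom.map_det]
        rfl
      by_cases hij : (i, j) ∈ s
      · rw [h2]
        exact Ideal.Quotient.eq_zero_iff_mem.2 (hq.1.2 (Ideal.subset_span (Finset.mem_image_of_mem g hij)))
      · refine det_cons_eq_zero _ a b i j ?_
        simp only [s, Finset.mem_product, Finset.mem_compl, Finset.mem_image, Finset.mem_univ, true_and,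
          not_and_or, not_not] at hij
        exact hij
  have h4 : minorIdeal (r + 1) M ≤ q := by
    rw [minorIdeal_map, Ideal.map_eq_bot_iff_le_ker, Ideal.mk_ker] at h1
    exact h1
  have h5 : p = q := le_antisymm (hp.2 ⟨hqq, h4⟩ hqp) hqp
  rw [← h5] at hq
  refine (Ideal.height_le_card_of_mem_minimalPrimes_span_finset hq).trans ?_
  have h6 : (s.image g).card ≤ (Fintype.card ι - r) * (Fintype.card κ - r) := by
    refine Finset.card_image_le.trans ?_
    rw [Finset.card_product, Finset.card_compl, Finset.card_compl,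
      Finset.card_image_of_injective _ (injective_left_of_det_ne_zero M a b hδ0),
      Finset.card_image_of_injective _ (injective_right_of_det_ne_zero M a b hδ0)]
    simp
  exact_mod_cast h6

/-- The dimension form. -/
theorem le_ringKrullDim_quotient {k : Type u} [Field k] {R : Type u} [CommRing R] [IsDomain R] [Algebra k R]
    [Algebra.FiniteType k R] {ι κ : Type*} [Fintype ι] [Fintype κ] {r : ℕ}
    (M : Matrix ι κ R) (p : Ideal R) (hp : p ∈ (minorIdeal (r + 1) M).minimalPrimes) (a : Fin r → ι) (b : Fin r → κ)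
    (hδ : (M.submatrix a b).det ∉ p) :
    ringKrullDim R ≤ ringKrullDim (R ⧸ p) + ((Fintype.card ι - r) * (Fintype.card κ - r) : ℕ) := by
  have : IsNoetherianRing R := Algebra.FiniteType.isNoetherianRing k R
  have hpp : p.IsPrime := hp.1.1
  have h1 := height_le M p hp a b hδ
  rw [← Groth.Agent.CalgC.DimFT.height_add_ringKrullDim_quotient (k := k) R p, add_comm]
  gcongr
  have h2 : ((p.height : ℕ∞) : WithBot ℕ∞) ≤
      ((((Fintype.card ι - r) * (Fintype.card κ - r) : ℕ) : ℕ∞) : WithBot ℕ∞) := WithBot.coe_le_coe.2 h1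
  exact h2

end K360.DegenHeight
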