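import Groth.Agent.Coherent.K360.DegenChart
import Groth.Agent.Coherent.K360.DegenFibre
import Groth.Agent.Coherent.K360.DegenHeight
import Groth.Agent.CharCyc.K716.Td
import Groth.Agent.LoccohA.OmClosed
import Groth.Agent.Krr.H495.Rank
import Groth.Agent.Omega.K935.CoprodRank

/-!
# General morphisms between finite locally free modules on a variety

* `exists_poly_cover`: local conditions on general members.
* `td_add_le`: dimensions of closed subsets in terms of affine charts.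
-/

set_option autoImplicit false
universe u

open CategoryTheory CategoryTheory.Limits AlgebraicGeometry TopologicalSpace Opposite

namespace K360.DegenGen

open Groth.Agent K360.DegenChart K360.DegenRing K821.Minors K716.Td Groth.Agent.CohqB.FiniteType2

section Cover

variable {k : Type u} [Field k]

theorem exists_poly_cover {X : Type*} [TopologicalSpace X] [CompactSpace X] {m : ℕ} {H : Type*} (c : H → Fin m → k)
    (Q : H → Opens X → Prop)
    (h : ∀ x : X, ∃ V : Opens X, x ∈ V ∧ ∃ p : MvPolynomial (Fin m) k, p ≠ 0 ∧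
      ∀ φ, MvPolynomial.eval (c φ) p ≠ 0 → Q φ V) :
    ∃ p : MvPolynomial (Fin m) k, p ≠ 0 ∧ ∀ φ, MvPolynomial.eval (c φ) p ≠ 0 →
      ∀ x, ∃ V : Opens X, x ∈ V ∧ Q φ V := by
  choose V hV p hp0 hp using h
  obtain ⟨t, ht⟩ := CompactSpace.elim_nhds_subcover (fun x => (V x : Set X)) (fun x => (V x).2.mem_nhds (hV x))
  refine ⟨∏ x ∈ t, p x, Finset.prod_ne_zero_iff.2 fun x _ => hp0 x, fun φ hφ x => ?_⟩
  rw [map_prod, Finset.prod_ne_zero_iff] at hφ
  have hx : x ∈ ⋃ y ∈ t, (V y : Set X) := ht ▸ trivial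
  obtain ⟨y, hy, hxy⟩ := Set.mem_iUnion₂.1 hx
  exact ⟨V y, hxy, hp y φ (hφ y hy)⟩

end Cover

section Alg

variable {k : Type u} [Field k] {X : Scheme.{u}} [X.Over (Spec (CommRingCat.of k))]

theorem fromSpec_comp {V : X.Opens} (hV : IsAffineOpen V) :
    hV.fromSpec ≫ (X ↘ Spec (CommRingCat.of k)) = Spec.map (CommRingCat.ofHom (kap k V)) :=
  LoccohA.OmClosed.fromSpec_comp _ hV

theorem finiteType [LocallyOfFiniteType (X ↘ Spec (CommRingCat.of k))] {V : X.Opens} (hV : IsAffineOpen V) :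
    (kap k V).FiniteType := by
  have h1 : LocallyOfFiniteType (hV.fromSpec ≫ (X ↘ Spec (CommRingCat.of k))) := inferInstance
  rw [fromSpec_comp, HasRingHomProperty.Spec_iff (P := @LocallyOfFiniteType)] at h1
  exact h1

theorem smooth [Smooth (X ↘ Spec (CommRingCat.of k))] {V : X.Opens} (hV : IsAffineOpen V) :
    (kap k V).Smooth := by
  have h1 : Smooth (hV.fromSpec ≫ (X ↘ Spec (CommRingCat.of k))) := inferInstance
  rw [fromSpec_comp, HasRingHomProperty.Spec_iff (P := @Smooth)] at h1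
  exact h1

theorem ringKrullDim_le {V : X.Opens} (hV : IsAffineOpen V) {n : ℕ} (hn : topologicalKrullDim X ≤ n) :
    ringKrullDim Γ(X, V) ≤ n := by
  rw [← PrimeSpectrum.topologicalKrullDim_eq_ringKrullDim]
  exact (hV.fromSpec.isOpenEmbedding.isInducing.topologicalKrullDim_le).trans hn

omit [X.Over (Spec (CommRingCat.of k))] in
/-- A closed subset over an affine open, in terms of dimensions. -/
theorem td_add_le (q : X ⟶ Spec (CommRingCat.of k)) [LocallyOfFiniteType q] (I : X.IdealSheafData) {V : X.Opens}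
    (hV : IsAffineOpen V) {c n : ℕ}
    (h : ringKrullDim (Γ(X, V) ⧸ I.ideal ⟨V, hV⟩) + (c : WithBot ℕ∞) ≤ (n : WithBot ℕ∞)) {x : X} (hxV : x ∈ V)
    (hx : x ∈ I.support) : td q x + c ≤ n := by
  rw [SDiv.K474.FittLoc.mem_support_iff_le I hV hxV] at hx
  let i : Spec (CommRingCat.of (Γ(X, V) ⧸ I.ideal ⟨V, hV⟩)) ⟶ X :=
    Spec.map (CommRingCat.ofHom (Ideal.Quotient.mk (I.ideal ⟨V, hV⟩))) ≫ hV.fromSpec
  have hcl : IsClosedImmersion (Spec.map (CommRingCat.ofHom (Ideal.Quotient.mk (I.ideal ⟨V, hV⟩)))) :=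
    IsClosedImmersion.spec_of_surjective _ Ideal.Quotient.mk_surjective
  obtain ⟨z, hz⟩ : ∃ z : PrimeSpectrum (Γ(X, V) ⧸ I.ideal ⟨V, hV⟩),
      z.comap (Ideal.Quotient.mk (I.ideal ⟨V, hV⟩)) = hV.primeIdealOf ⟨x, hxV⟩ := by
    have h1 : hV.primeIdealOf ⟨x, hxV⟩ ∈ Set.range (PrimeSpectrum.comap (Ideal.Quotient.mk (I.ideal ⟨V, hV⟩))) := by
      rw [range_comap_of_surjective _ _ Ideal.Quotient.mk_surjective, Ideal.mk_ker]
      exact hx
    exact h1
  have hiz : i z = x := by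
    have h1 : i z = hV.fromSpec (z.comap (Ideal.Quotient.mk (I.ideal ⟨V, hV⟩))) := rfl
    rw [h1, hz]
    exact hV.fromSpec_primeIdealOf ⟨x, hxV⟩
  have h2 := le_dim (i ≫ q) z
  rw [td_comp, td_of_isPreimmersion i, add_zero, hiz] at h2
  have h3 : topologicalKrullDim (Spec (CommRingCat.of (Γ(X, V) ⧸ I.ideal ⟨V, hV⟩))) =
      ringKrullDim (Γ(X, V) ⧸ I.ideal ⟨V, hV⟩) := PrimeSpectrum.topologicalKrullDim_eq_ringKrullDim _
  rw [h3] at h2
  have h4 : ((td q x : ℕ) : WithBot ℕ∞) + (c : WithBot ℕ∞) ≤ (n : WithBot ℕ∞) := by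
    refine le_trans ?_ h
    gcongr
  exact_mod_cast h4

end Alg

section Bases

variable {X : Scheme.{u}}

theorem exists_basis_nhds {r : ℕ} {F : X.Modules} (h : FlatMod.IsFinLocFreeOfRank r F) (x : X) :
    ∃ U : X.Opens, x ∈ U ∧ ∀ V : X.Opens, V ≤ U → Nonempty (Module.Basis (Fin r) Γ(X, V) Γ(F, V)) := by
  obtain ⟨U, hU, b, hx, he⟩ := SDiv.K474.FittLoc.exists_affine_isBas F h x
  exact ⟨U, hx, fun V hV => ⟨((Ega2.BasSec.comb_bijective_iff _).1 (he.res hV).bijective).choose⟩⟩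

theorem isFinLocFree_of_rank {r : ℕ} {F : X.Modules} (h : FlatMod.IsFinLocFreeOfRank r F) :
    FlatMod.IsFinLocFree F := Ega2.QCohLocal.isFinLocFree_of_rank h

theorem isCoh_of_rank {r : ℕ} {F : X.Modules} (h : FlatMod.IsFinLocFreeOfRank r F) : Coh.IsCoh F :=
  PerfA.CohSerre.isCoh_of_isFinLocFree (isFinLocFree_of_rank h)

end Bases

section Block

variable {k : Type u} [Field k] {X : Scheme.{u}} [X.Over (Spec (CommRingCat.of k))]
  [LocallyOfFiniteType (X ↘ Spec (CommRingCat.of k))] [AlgebraicGeometry.IsIntegral X] [CompactSpace X]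

/-- **Dimension of the degeneracy locus of a general block triangular morphism.** -/
theorem exists_poly_block {n : ℕ} (hn : topologicalKrullDim X ≤ n) {A₁ A₂ B₁ B₂ : X.Modules} {a₁ a₂ b₁ b₂ : ℕ}
    (hA₁ : FlatMod.IsFinLocFreeOfRank a₁ A₁) (hA₂ : FlatMod.IsFinLocFreeOfRank a₂ A₂)
    (hB₁ : FlatMod.IsFinLocFreeOfRank b₁ B₁) (hB₂ : FlatMod.IsFinLocFreeOfRank b₂ B₂)
    (h₁₁ : ∀ V : X.Opens, IsAffineOpen V → LinSpan A₁ B₁ V) (h₁₂ : ∀ V : X.Opens, IsAffineOpen V → LinSpan A₁ B₂ V)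
    (h₂₂ : ∀ V : X.Opens, IsAffineOpen V → LinSpan A₂ B₂ V) (h₂₁ : ∀ ψ : A₂ ⟶ B₁, ψ = 0)
    (hab₂ : a₂ ≤ b₂) (hab : a₁ + a₂ ≤ b₁ + b₂) {m : ℕ} (b : Module.Basis (Fin m) k ((A₁ ⊞ A₂) ⟶ (B₁ ⊞ B₂))) :
    ∃ p : MvPolynomial (Fin m) k, p ≠ 0 ∧ ∀ φ : (A₁ ⊞ A₂) ⟶ (B₁ ⊞ B₂), MvPolynomial.eval (b.equivFun φ) p ≠ 0 →
      ∀ x : X, x ∈ (Fitt.sheafIdeal (cokernel φ) (b₁ + b₂ - (a₁ + a₂))).support →
        td (X ↘ Spec (CommRingCat.of k)) x + (min (b₂ - a₂) (b₁ + b₂ - (a₁ + a₂)) + 1) ≤ n := by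
  have hAq : Coh.IsQCoh (A₁ ⊞ A₂) :=
    (PerfA.CohSerre.isCoh_of_isFinLocFree
      (Krr.H495.Rank.isFinLocFree_biprod (isFinLocFree_of_rank hA₁) (isFinLocFree_of_rank hA₂))).1
  have hBc : Coh.IsCoh (B₁ ⊞ B₂) :=
    PerfA.CohSerre.isCoh_of_isFinLocFree
      (Krr.H495.Rank.isFinLocFree_biprod (isFinLocFree_of_rank hB₁) (isFinLocFree_of_rank hB₂))
  obtain ⟨p, hp0, hp⟩ := exists_poly_cover (k := k) (X := X) (fun φ : (A₁ ⊞ A₂) ⟶ (B₁ ⊞ B₂) => b.equivFun φ)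
    (fun φ V => ∀ x ∈ V, x ∈ (Fitt.sheafIdeal (cokernel φ) (b₁ + b₂ - (a₁ + a₂))).support →
        td (X ↘ Spec (CommRingCat.of k)) x + (min (b₂ - a₂) (b₁ + b₂ - (a₁ + a₂)) + 1) ≤ n) (fun x => by
    obtain ⟨U₁, hx₁, hU₁⟩ := exists_basis_nhds hA₁ x
    obtain ⟨U₂, hx₂, hU₂⟩ := exists_basis_nhds hA₂ x
    obtain ⟨U₃, hx₃, hU₃⟩ := exists_basis_nhds hB₁ x
    obtain ⟨U₄, hx₄, hU₄⟩ := exists_basis_nhds hB₂ x
    obtain ⟨V, hV, hxV, hVU⟩ := exists_isAffineOpen_mem_and_subset (x := x) (U := (U₁ ⊓ U₂) ⊓ (U₃ ⊓ U₄))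
      ⟨⟨hx₁, hx₂⟩, ⟨hx₃, hx₄⟩⟩
    obtain ⟨e₁⟩ := hU₁ V (hVU.trans (inf_le_left.trans inf_le_left))
    obtain ⟨e₂⟩ := hU₂ V (hVU.trans (inf_le_left.trans inf_le_right))
    obtain ⟨f₁⟩ := hU₃ V (hVU.trans (inf_le_right.trans inf_le_left))
    obtain ⟨f₂⟩ := hU₄ V (hVU.trans (inf_le_right.trans inf_le_right))
    refine ⟨V, hxV, ?_⟩
    let : Algebra k Γ(X, V) := (kap k V).toAlgebra
    have hft : Algebra.FiniteType k Γ(X, V) := finiteType hV
    have hne : Nonempty V := ⟨⟨x, hxV⟩⟩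
    have hdom : IsDomain Γ(X, V) := inferInstance
    obtain ⟨p, hp0, hp⟩ := DegenBlock.exists_poly_block (k := k) (ρ₁ := Fin b₁) (ρ₂ := Fin b₂) (γ₁ := Fin a₁)
      (γ₂ := Fin a₂) n (ringKrullDim_le hV hn) (fun l => mat (bip e₁ e₂) (bip f₁ f₂) (b l))
      (fun l i j => by
        rw [mat, toMatrix_bip, Matrix.fromBlocks_apply₁₂]
        have h1 : (appLinear (biprod.fst : B₁ ⊞ B₂ ⟶ B₁) V).comp ((appLinear (b l) V).comp
            (appLinear (biprod.inr : A₂ ⟶ A₁ ⊞ A₂) V)) = 0 := by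
          have h2 := h₂₁ (biprod.inr ≫ b l ≫ biprod.fst)
          have h3 : appLinear (biprod.inr ≫ b l ≫ biprod.fst : A₂ ⟶ B₁) V = appLinear 0 V := by rw [h2]
          exact h3
        rw [h1, map_zero, Matrix.zero_apply])
      (fun x hx => by
        obtain ⟨a, ha⟩ := exists_coeff_bip e₁ e₂ f₁ f₂ b (h₁₁ V hV) (h₁₂ V hV) (h₂₂ V hV) x hx
        exact ⟨a, fun y _ => ha y⟩)
      (by simpa using hab₂) (by simpa using hab)
    refine ⟨p, hp0, fun φ hφ y hyV hy => ?_⟩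
    have h1 := hp (b.equivFun φ) hφ
    have h2 : (mem (fun l => mat (bip e₁ e₂) (bip f₁ f₂) (b l)) fun l => algebraMap k Γ(X, V) (b.equivFun φ l)) =
        mat (bip e₁ e₂) (bip f₁ f₂) φ := (mat_eq_mem _ _ b φ).symm
    rw [h2] at h1
    have h3 := fitt_ideal (bip e₁ e₂) (bip f₁ f₂) hAq hBc.1 hBc.2 φ hV (b₁ + b₂ - (a₁ + a₂))
    have h4 : Fintype.card (Fin b₁ ⊕ Fin b₂) - (b₁ + b₂ - (a₁ + a₂)) = Fintype.card (Fin a₁ ⊕ Fin a₂) := by
      simp only [Fintype.card_sum, Fintype.card_fin]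
      omega
    rw [h4] at h3
    rw [← h3] at h1
    simp only [Fintype.card_sum, Fintype.card_fin] at h1
    exact td_add_le (X ↘ Spec (CommRingCat.of k)) _ hV h1 hyV hy)
  refine ⟨p, hp0, fun φ hφ x hx => ?_⟩
  obtain ⟨V, hxV, h⟩ := hp φ hφ x
  exact h x hxV hx

end Block

section Full

variable {k : Type u} [Field k] {X : Scheme.{u}} [X.Over (Spec (CommRingCat.of k))]

/-- All positions of the matrices are spanned. -/
theorem exists_coeff_full {A B : X.Modules} {V : X.Opens} {ρ γ : Type} [Fintype ρ] [Fintype γ] [DecidableEq ρ]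
    [DecidableEq γ] (e : Module.Basis γ Γ(X, V) Γ(A, V)) (f : Module.Basis ρ Γ(X, V) Γ(B, V)) (hS : LinSpan A B V)
    {m : ℕ} (bs : Module.Basis (Fin m) k (A ⟶ B)) (x : ρ × γ) :
    ∃ a : Fin m → Γ(X, V), ∀ y : ρ × γ, ∑ l, a l * mat e f (bs l) y.1 y.2 = if y = x then 1 else 0 := by
  obtain ⟨a, ha⟩ := exists_coeff e f bs (Matrix.toLin e f (Matrix.single x.1 x.2 1)) (hS _)
  refine ⟨a, fun y => ?_⟩
  rw [ha, LinearMap.toMatrix_toLin, Matrix.single_apply]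
  congr 1
  rw [Prod.ext_iff, eq_iff_iff]
  exact ⟨fun h => ⟨h.1.symm, h.2.symm⟩, fun h => ⟨h.1.symm, h.2.symm⟩⟩

/-- **Dimension of the degeneracy loci of a general morphism.** -/
theorem exists_poly_rank [LocallyOfFiniteType (X ↘ Spec (CommRingCat.of k))] [AlgebraicGeometry.IsIntegral X]
    [CompactSpace X] {n : ℕ} (hn : topologicalKrullDim X ≤ n) {A B : X.Modules} {a b : ℕ}
    (hA : FlatMod.IsFinLocFreeOfRank a A) (hB : FlatMod.IsFinLocFreeOfRank b B)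
    (hS : ∀ x : X, ∃ U : X.Opens, x ∈ U ∧ ∀ V : X.Opens, V ≤ U → IsAffineOpen V → LinSpan A B V)
    {r : ℕ} (hra : r ≤ a) (hrb : r < b) {m : ℕ} (bs : Module.Basis (Fin m) k (A ⟶ B)) :
    ∃ p : MvPolynomial (Fin m) k, p ≠ 0 ∧ ∀ φ : A ⟶ B, MvPolynomial.eval (bs.equivFun φ) p ≠ 0 →
      ∀ x : X, x ∈ (Fitt.sheafIdeal (cokernel φ) (b - r - 1)).support →
        td (X ↘ Spec (CommRingCat.of k)) x + (a - r) * (b - r) ≤ n := by
  have hAq : Coh.IsQCoh A := (isCoh_of_rank hA).1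
  have hBc : Coh.IsCoh B := isCoh_of_rank hB
  obtain ⟨p, hp0, hp⟩ := exists_poly_cover (k := k) (X := X) (fun φ : A ⟶ B => bs.equivFun φ)
    (fun φ V => ∀ x ∈ V, x ∈ (Fitt.sheafIdeal (cokernel φ) (b - r - 1)).support →
        td (X ↘ Spec (CommRingCat.of k)) x + (a - r) * (b - r) ≤ n) (fun x => by
    obtain ⟨U₁, hx₁, hU₁⟩ := exists_basis_nhds hA x
    obtain ⟨U₂, hx₂, hU₂⟩ := exists_basis_nhds hB x
    obtain ⟨U₃, hx₃, hU₃⟩ := hS x
    obtain ⟨V, hV, hxV, hVU⟩ := exists_isAffineOpen_mem_and_subset (x := x) (U := (U₁ ⊓ U₂) ⊓ U₃)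
      ⟨⟨hx₁, hx₂⟩, hx₃⟩
    obtain ⟨e⟩ := hU₁ V (hVU.trans (inf_le_left.trans inf_le_left))
    obtain ⟨f⟩ := hU₂ V (hVU.trans (inf_le_left.trans inf_le_right))
    refine ⟨V, hxV, ?_⟩
    let : Algebra k Γ(X, V) := (kap k V).toAlgebra
    have hft : Algebra.FiniteType k Γ(X, V) := finiteType hV
    have hne : Nonempty V := ⟨⟨x, hxV⟩⟩
    have hdom : IsDomain Γ(X, V) := inferInstance
    obtain ⟨p, hp0, hp⟩ := DegenRing.exists_poly_rank (k := k) n (ringKrullDim_le hV hn)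
      (fun l => mat e f (bs l)) (exists_coeff_full e f (hU₃ V (hVU.trans inf_le_right) hV) bs) r
      (by simpa using hrb.le) (by simpa using hra)
    refine ⟨p, hp0, fun φ hφ y hyV hy => ?_⟩
    have h1 := hp (bs.equivFun φ) hφ
    have h2 : (mem (fun l => mat e f (bs l)) fun l => algebraMap k Γ(X, V) (bs.equivFun φ l)) = mat e f φ :=
      (mat_eq_mem _ _ bs φ).symm
    rw [h2] at h1
    have h3 := fitt_ideal e f hAq hBc.1 hBc.2 φ hV (b - r - 1)
    have h4 : Fintype.card (Fin b) - (b - r - 1) = r + 1 := by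
      rw [Fintype.card_fin]
      omega
    rw [h4] at h3
    rw [← h3] at h1
    simp only [Fintype.card_fin] at h1
    exact td_add_le (X ↘ Spec (CommRingCat.of k)) _ hV h1 hyV hy)
  refine ⟨p, hp0, fun φ hφ x hx => ?_⟩
  obtain ⟨V, hxV, h⟩ := hp φ hφ x
  exact h x hxV hx

/-- The structure map of a chart of a closed subscheme. -/
noncomputable abbrev chartMap (I : X.IdealSheafData) (U : X.affineOpens) :
    Spec (CommRingCat.of (Γ(X, U.1) ⧸ I.ideal U)) ⟶ Spec (CommRingCat.of k) :=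
  Spec.map (CommRingCat.ofHom ((Ideal.Quotient.mk (I.ideal U)).comp (kap k U.1)))

theorem chartMap_eq (I : X.IdealSheafData) (U : X.affineOpens) :
    I.subschemeCover.f U ≫ I.subschemeι ≫ (X ↘ Spec (CommRingCat.of k)) = chartMap I U := by
  have h1 : I.subschemeCover.f U ≫ I.subschemeι =
      Spec.map (CommRingCat.ofHom (Ideal.Quotient.mk (I.ideal U))) ≫ U.2.fromSpec :=
    (I.subschemeCover_map_subschemeι U).trans (I.glueDataObjι_ι U)
  have h2 : Spec.map (CommRingCat.ofHom (Ideal.Quotient.mk (I.ideal U))) ≫ U.2.fromSpec ≫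
      (X ↘ Spec (CommRingCat.of k)) = chartMap I U := by
    rw [fromSpec_comp U.2, ← Spec.map_comp]
    rfl
  rw [← h2]
  exact (Category.assoc _ _ _).symm.trans
    ((congrArg (· ≫ (X ↘ Spec (CommRingCat.of k))) h1).trans (Category.assoc _ _ _))

theorem smooth_chartMap_congr {U : X.Opens} {J J' : Ideal Γ(X, U)} (h : J = J')
    (hs : Smooth (Spec.map (CommRingCat.ofHom ((Ideal.Quotient.mk J).comp (kap k U))))) :
    Smooth (Spec.map (CommRingCat.ofHom ((Ideal.Quotient.mk J').comp (kap k U)))) := by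
  subst h
  exact hs

/-- Smoothness of the stratum of rank exactly `r` in a chart. -/
theorem exists_poly_smooth [CharZero k] [Smooth (X ↘ Spec (CommRingCat.of k))] {A B : X.Modules} {a b : ℕ}
    (hA : FlatMod.IsFinLocFreeOfRank a A) (hB : FlatMod.IsFinLocFreeOfRank b B) {V : X.Opens}
    (hV : IsAffineOpen V) (e : Module.Basis (Fin a) Γ(X, V) Γ(A, V)) (f : Module.Basis (Fin b) Γ(X, V) Γ(B, V))
    (hS : LinSpan A B V) {r : ℕ} (hrb : r < b) {m : ℕ} (bs : Module.Basis (Fin m) k (A ⟶ B)) :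
    ∃ p : MvPolynomial (Fin m) k, p ≠ 0 ∧ ∀ φ : A ⟶ B, MvPolynomial.eval (bs.equivFun φ) p ≠ 0 →
      ∀ (s : Fin r → Fin b) (t : Fin r → Fin a), Smooth (chartMap (k := k) (Fitt.sheafIdeal (cokernel φ) (b - r - 1))
        (X.affineBasicOpen (U := ⟨V, hV⟩) ((mat e f φ).submatrix s t).det)) := by
  have hAq : Coh.IsQCoh A := (isCoh_of_rank hA).1
  have hBc : Coh.IsCoh B := isCoh_of_rank hB
  let : Algebra k Γ(X, V) := (kap k V).toAlgebra
  have hsm : Algebra.Smooth k Γ(X, V) := smooth hV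
  have key : ∀ (x : (Fin r → Fin b) × (Fin r → Fin a)), ∃ p : MvPolynomial (Fin m) k, p ≠ 0 ∧
      ∀ φ : A ⟶ B, MvPolynomial.eval (bs.equivFun φ) p ≠ 0 →
        Smooth (chartMap (k := k) (Fitt.sheafIdeal (cokernel φ) (b - r - 1))
          (X.affineBasicOpen (U := ⟨V, hV⟩) ((mat e f φ).submatrix x.1 x.2).det)) := by
    rintro ⟨s, t⟩
    obtain ⟨p, hp0, hp⟩ := DegenFibre.smooth_general (k := k) (fun l => mat e f (bs l))
      (exists_coeff_full e f hS bs) s t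
    refine ⟨p, hp0, fun φ hφ => ?_⟩
    have h2 : (mem (fun l => mat e f (bs l)) fun l => algebraMap k Γ(X, V) (bs.equivFun φ l)) = mat e f φ :=
      (mat_eq_mem _ _ bs φ).symm
    have h3 := fitt_ideal e f hAq hBc.1 hBc.2 φ hV (b - r - 1)
    have h4 : Fintype.card (Fin b) - (b - r - 1) = r + 1 := by
      rw [Fintype.card_fin]
      omega
    rw [h4] at h3
    let δ : Γ(X, V) := ((mat e f φ).submatrix s t).det
    let U' : X.affineOpens := X.affineBasicOpen (U := ⟨V, hV⟩) δ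
    let : Algebra k Γ(X, X.basicOpen δ) := (kap k (X.basicOpen δ)).toAlgebra
    have hst : IsScalarTower k Γ(X, V) Γ(X, X.basicOpen δ) := IsScalarTower.of_algebraMap_eq fun x => by
      change X.presheaf.map _ _ = X.presheaf.map _ (X.presheaf.map _ _)
      rw [← CommRingCat.comp_apply, ← X.presheaf.map_comp]
      rfl
    have hδ : ((mem (fun l => mat e f (bs l)) fun l => algebraMap k Γ(X, V) (bs.equivFun φ l)).submatrix s t).det =
        δ := by rw [h2]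
    have hloc : IsLocalization.Away ((mem (fun l => mat e f (bs l)) fun l =>
        algebraMap k Γ(X, V) (bs.equivFun φ l)).submatrix s t).det Γ(X, X.basicOpen δ) := by
      rw [hδ]
      exact hV.isLocalization_basicOpen δ
    have h5 := hp (bs.equivFun φ) hφ Γ(X, X.basicOpen δ)
    refine smooth_chartMap_congr (k := k) (U := X.basicOpen δ) ?_ h5
    rw [h2, ← h3]
    exact (Fitt.sheafIdeal (cokernel φ) (b - r - 1)).map_ideal_basicOpen ⟨V, hV⟩ δ
  choose p hp0 hp using key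
  refine ⟨∏ x, p x, Finset.prod_ne_zero_iff.2 fun x _ => hp0 x, fun φ hφ s t => ?_⟩
  rw [map_prod, Finset.prod_ne_zero_iff] at hφ
  exact hp (s, t) φ (hφ _ (Finset.mem_univ _))

end Full

end K360.DegenGen
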