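import Groth.Agent.Zeta.K468.Count
import Groth.Agent.CalgC.DimFT
import Mathlib.RingTheory.AlgebraicIndependent.TranscendenceBasis

/-!
# Dimension of the general fibre over an affine space

`exists_poly`: `T` a finitely generated algebra over `P = k[x_1, …, x_m]` all of whose prime quotients satisfy
`trdeg_k (T / q) + c ≤ n + m`. Then for general `t ∈ k^m` every quotient `S` of the fibre of `T` over `t` satisfies
`dim S + c ≤ n`; in particular the fibre is empty if `n < c`.
-/

set_option autoImplicit false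
universe u

open scoped TensorProduct nonZeroDivisors

namespace K360.DegenSpread

variable {k : Type u} [Field k] {m : ℕ}

section Prime

variable {P K T AK : Type u} [CommRing P] [IsDomain P] [Field K] [CommRing T] [CommRing AK]
  [Algebra P K] [IsFractionRing P K] [Algebra P T] [Algebra K AK] [Algebra P AK] [IsScalarTower P K AK]
  [Algebra T AK] [IsScalarTower P T AK] [IsLocalization (Algebra.algebraMapSubmonoid T P⁰) AK]
  [Algebra k P] [Algebra k K] [Algebra k T] [Algebra k AK] [IsScalarTower k P K] [IsScalarTower k K AK]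
  [IsScalarTower k T AK]

/-- A prime of `T` of large transcendence degree. -/
theorem exists_prime_aux (hk : Function.Injective (algebraMap k P)) {s : ℕ}
    (g : MvPolynomial (Fin s) K →ₐ[K] AK) (hg : Function.Injective g) :
    ∃ (q : Ideal T) (_ : q.IsPrime), Algebra.trdeg k P + (s : Cardinal.{u}) ≤ Algebra.trdeg k (T ⧸ q) := by
  have hbot : (⊥ : Ideal (MvPolynomial (Fin s) K)) ∈ minimalPrimes (MvPolynomial (Fin s) K) := by
    rw [IsDomain.minimalPrimes_eq_singleton_bot]
    rfl
  obtain ⟨Q, hQ, hQc⟩ := Ideal.exists_comap_eq_of_mem_minimalPrimes_of_injective (f := g.toRingHom) hg _ hbot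
  let q : Ideal T := Q.comap (algebraMap T AK)
  have hq : q.IsPrime := hQ.comap _
  refine ⟨q, hq, ?_⟩
  -- the ring map on quotients
  let φ : T ⧸ q →+* AK ⧸ Q := Ideal.quotientMap Q (algebraMap T AK) le_rfl
  have hφ : Function.Injective φ := Ideal.quotientMap_injective' le_rfl
  let _ : Algebra (T ⧸ q) (AK ⧸ Q) := φ.toAlgebra
  have hsmul : FaithfulSMul (T ⧸ q) (AK ⧸ Q) := (faithfulSMul_iff_algebraMap_injective _ _).mpr hφ
  have htow : IsScalarTower k (T ⧸ q) (AK ⧸ Q) := by
    refine IsScalarTower.of_algebraMap_eq fun a => ?_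
    change _ = φ (Ideal.Quotient.mk q (algebraMap k T a))
    change Ideal.Quotient.mk Q (algebraMap k AK a) = Ideal.Quotient.mk Q (algebraMap T AK (algebraMap k T a))
    rw [← IsScalarTower.algebraMap_apply]
  have hsmulk : FaithfulSMul k (T ⧸ q) :=
    (faithfulSMul_iff_algebraMap_injective _ _).mpr (algebraMap k (T ⧸ q)).injective
  -- the localization is algebraic
  have halg : Algebra.IsAlgebraic (T ⧸ q) (AK ⧸ Q) := by
    constructor
    intro x
    obtain ⟨x, rfl⟩ := Ideal.Quotient.mk_surjective x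
    obtain ⟨⟨a, ⟨_, c, hc, rfl⟩⟩, h⟩ := IsLocalization.surj (Algebra.algebraMapSubmonoid T P⁰) x
    dsimp only at h
    have hc0 : c ≠ 0 := nonZeroDivisors.ne_zero hc
    refine ⟨Polynomial.C (Ideal.Quotient.mk q (algebraMap P T c)) * Polynomial.X -
      Polynomial.C (Ideal.Quotient.mk q a), ?_, ?_⟩
    · intro h0
      have h1 := congrArg (fun f => Polynomial.coeff f 1) h0
      simp only [Polynomial.coeff_sub, Polynomial.coeff_C_mul, Polynomial.coeff_X_one, mul_one,
        Polynomial.coeff_C_succ, sub_zero, Polynomial.coeff_zero] at h1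
      have h2 : algebraMap P T c ∈ q := Ideal.Quotient.eq_zero_iff_mem.1 h1
      rw [Ideal.mem_comap] at h2
      rw [← IsScalarTower.algebraMap_apply, IsScalarTower.algebraMap_apply P K AK] at h2
      have h3 : IsUnit (algebraMap K AK (algebraMap P K c)) := by
        refine IsUnit.map _ (IsUnit.mk0 _ ?_)
        rwa [Ne, FaithfulSMul.algebraMap_eq_zero_iff]
      exact hQ.ne_top (Ideal.eq_top_of_isUnit_mem _ h2 h3)
    · rw [map_sub, map_mul, Polynomial.aeval_C, Polynomial.aeval_C, Polynomial.aeval_X, sub_eq_zero]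
      change Ideal.Quotient.mk Q (algebraMap T AK (algebraMap P T c)) * Ideal.Quotient.mk Q x =
        Ideal.Quotient.mk Q (algebraMap T AK a)
      rw [← map_mul, mul_comm]
      exact congrArg _ h
  have h1 : Algebra.trdeg k (T ⧸ q) = Algebra.trdeg k (AK ⧸ Q) := by
    have := trdeg_add_eq (R := k) (S := T ⧸ q) (A := AK ⧸ Q)
    rwa [trdeg_eq_zero (R := T ⧸ q) (A := AK ⧸ Q), add_zero] at this
  -- lower bound
  have hsmulkP : FaithfulSMul k P := (faithfulSMul_iff_algebraMap_injective _ _).mpr hk
  have hK : Algebra.trdeg k P = Algebra.trdeg k K := by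
    have := trdeg_add_eq (R := k) (S := P) (A := K)
    have halg : Algebra.IsAlgebraic P K := IsLocalization.isAlgebraic K P⁰
    rwa [trdeg_eq_zero (R := P) (A := K), add_zero] at this
  have htowK : IsScalarTower k K (AK ⧸ Q) := inferInstance
  have hsmulK : FaithfulSMul K (AK ⧸ Q) :=
    (faithfulSMul_iff_algebraMap_injective _ _).mpr (algebraMap K (AK ⧸ Q)).injective
  have hsmulkK : FaithfulSMul k K :=
    (faithfulSMul_iff_algebraMap_injective _ _).mpr (algebraMap k K).injective
  have h2 := trdeg_add_eq (R := k) (S := K) (A := AK ⧸ Q)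
  have h3 : (s : Cardinal.{u}) ≤ Algebra.trdeg K (AK ⧸ Q) := by
    let f : MvPolynomial (Fin s) K →ₐ[K] AK ⧸ Q := (Ideal.Quotient.mkₐ K Q).comp g
    have hf : Function.Injective f := by
      rw [injective_iff_map_eq_zero]
      intro x hx
      have h4 : g x ∈ Q := Ideal.Quotient.eq_zero_iff_mem.1 hx
      have h5 : x ∈ Q.comap g.toRingHom := h4
      rwa [hQc] at h5
    have h4 := trdeg_le_of_injective f hf
    rw [MvPolynomial.trdeg_of_isDomain] at h4
    simpa using h4
  rw [h1, ← h2, ← hK]
  exact add_le_add le_rfl h3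

end Prime

theorem exists_prime {T : Type u} [CommRing T] [Algebra k T] [Algebra (MvPolynomial (Fin m) k) T]
    [IsScalarTower k (MvPolynomial (Fin m) k) T] {s : ℕ}
    (g : MvPolynomial (Fin s) (FractionRing (MvPolynomial (Fin m) k)) →ₐ[FractionRing (MvPolynomial (Fin m) k)]
      FractionRing (MvPolynomial (Fin m) k) ⊗[MvPolynomial (Fin m) k] T) (hg : Function.Injective g) :
    ∃ (q : Ideal T) (_ : q.IsPrime), ((m + s : ℕ) : Cardinal.{u}) ≤ Algebra.trdeg k (T ⧸ q) := by
  let _ : Algebra T (FractionRing (MvPolynomial (Fin m) k) ⊗[MvPolynomial (Fin m) k] T) :=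
    Algebra.TensorProduct.rightAlgebra
  have htow : IsScalarTower k T (FractionRing (MvPolynomial (Fin m) k) ⊗[MvPolynomial (Fin m) k] T) := by
    refine IsScalarTower.of_algebraMap_eq fun a => ?_
    rw [IsScalarTower.algebraMap_apply k (MvPolynomial (Fin m) k) T, ← IsScalarTower.algebraMap_apply]
    exact IsScalarTower.algebraMap_apply k (MvPolynomial (Fin m) k)
      (FractionRing (MvPolynomial (Fin m) k) ⊗[MvPolynomial (Fin m) k] T) a
  obtain ⟨q, hq, h⟩ := exists_prime_aux (k := k) (P := MvPolynomial (Fin m) k)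
    (T := T) (MvPolynomial.C_injective _ _) g hg
  refine ⟨q, hq, ?_⟩
  rw [MvPolynomial.trdeg_of_isDomain] at h
  push_cast
  simpa using h

/-- Evaluation at a point of affine space over `k`. -/
theorem dim_le_of_core {T S : Type u} [CommRing T] [Algebra (MvPolynomial (Fin m) k) T] [CommRing S] [Algebra k S]
    {s N : ℕ} (τ : Fin s → T) (a : Fin N → T)
    (ha : Algebra.adjoin (MvPolynomial (Fin m) k) (Set.range a) = ⊤) (c : Fin N → MvPolynomial (Fin m) k)
    (p : Fin N → Polynomial (MvPolynomial (Fin s) (MvPolynomial (Fin m) k))) (hp : ∀ j, (p j).Monic)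
    (h0 : ∀ j, Polynomial.eval₂ (MvPolynomial.aeval (R := MvPolynomial (Fin m) k) τ).toRingHom
      (algebraMap (MvPolynomial (Fin m) k) T (c j) * a j) (p j) = 0)
    (t : Fin m → k) (hc : ∀ j, MvPolynomial.eval t (c j) ≠ 0) (σ : T →+* S) (hσ : Function.Surjective σ)
    (hσt : ∀ f, σ (algebraMap _ T f) = algebraMap k S (MvPolynomial.eval t f)) :
    ringKrullDim S ≤ s := by
  let ψ : MvPolynomial (Fin s) k →ₐ[k] S := MvPolynomial.aeval fun i => σ (τ i)
  have hψ : ∀ f : MvPolynomial (Fin s) (MvPolynomial (Fin m) k),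
      σ (MvPolynomial.aeval τ f) = ψ (MvPolynomial.map (MvPolynomial.eval t) f) := by
    intro f
    have h1 : (σ.comp (MvPolynomial.aeval (R := MvPolynomial (Fin m) k) τ).toRingHom) =
        ψ.toRingHom.comp (MvPolynomial.map (MvPolynomial.eval t)) := by
      apply MvPolynomial.ringHom_ext
      · intro r
        change σ (MvPolynomial.aeval τ (MvPolynomial.C r)) = ψ (MvPolynomial.map _ (MvPolynomial.C r))
        rw [MvPolynomial.algHom_C, MvPolynomial.map_C, MvPolynomial.algHom_C]
        exact hσt r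
      · intro i
        change σ (MvPolynomial.aeval τ (MvPolynomial.X i)) = ψ (MvPolynomial.map _ (MvPolynomial.X i))
        rw [MvPolynomial.aeval_X, MvPolynomial.map_X, MvPolynomial.aeval_X]
    exact RingHom.congr_fun h1 f
  let _ : Algebra (MvPolynomial (Fin s) k) S := ψ.toRingHom.toAlgebra
  have hint : Algebra.IsIntegral (MvPolynomial (Fin s) k) S := by
    constructor
    intro x
    obtain ⟨x, rfl⟩ := hσ x
    have hx : x ∈ Algebra.adjoin (MvPolynomial (Fin m) k) (Set.range a) := by rw [ha]; trivial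
    induction hx using Algebra.adjoin_induction with
    | mem x hx =>
      obtain ⟨j, rfl⟩ := hx
      -- `c_j(t) a_j` is integral
      have h1 : IsIntegral (MvPolynomial (Fin s) k)
          (σ (algebraMap (MvPolynomial (Fin m) k) T (c j) * a j)) := by
        refine ⟨(p j).map (MvPolynomial.map (MvPolynomial.eval t)), (hp j).map _, ?_⟩
        rw [Polynomial.eval₂_map]
        have h2 := congrArg σ (h0 j)
        rw [map_zero, Polynomial.hom_eval₂] at h2
        refine Eq.trans ?_ h2
        congr 1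
        refine RingHom.ext fun f => ?_
        exact (hψ f).symm
      have h3 : σ (a j) = algebraMap (MvPolynomial (Fin s) k) S (MvPolynomial.C (MvPolynomial.eval t (c j))⁻¹) *
          σ (algebraMap (MvPolynomial (Fin m) k) T (c j) * a j) := by
        have h4 : algebraMap (MvPolynomial (Fin s) k) S (MvPolynomial.C (MvPolynomial.eval t (c j))⁻¹) =
            algebraMap k S (MvPolynomial.eval t (c j))⁻¹ := MvPolynomial.algHom_C ψ _
        rw [h4, map_mul, hσt, ← mul_assoc, ← map_mul, inv_mul_cancel₀ (hc j), map_one, one_mul]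
      rw [h3]
      exact isIntegral_algebraMap.mul h1
    | algebraMap r =>
      rw [hσt]
      have h4 : algebraMap (MvPolynomial (Fin s) k) S (MvPolynomial.C (MvPolynomial.eval t r)) =
            algebraMap k S (MvPolynomial.eval t r) := MvPolynomial.algHom_C ψ _
      rw [← h4]
      exact isIntegral_algebraMap
    | add x y _ _ hx hy => rw [map_add]; exact hx.add hy
    | mul x y _ _ hx hy => rw [map_mul]; exact hx.mul hy
  have h5 := Groth.Agent.CalgC.DimFT.ringKrullDim_le_of_isIntegral (R := MvPolynomial (Fin s) k) (S := S)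
  rwa [Groth.Agent.CalgC.DimFT.ringKrullDim_mvPolynomial_fin] at h5

/-- **Dimension of the general fibre.** -/
theorem exists_poly {T : Type u} [CommRing T] [Algebra k T] [Algebra (MvPolynomial (Fin m) k) T]
    [IsScalarTower k (MvPolynomial (Fin m) k) T] [Algebra.FiniteType (MvPolynomial (Fin m) k) T] (n c : ℕ)
    (h : ∀ (q : Ideal T) (_ : q.IsPrime), Algebra.trdeg k (T ⧸ q) + (c : Cardinal.{u}) ≤ ((n + m : ℕ) : Cardinal.{u})) :
    ∃ p : MvPolynomial (Fin m) k, p ≠ 0 ∧ ∀ t : Fin m → k, MvPolynomial.eval t p ≠ 0 →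
      ∀ (S : Type u) [CommRing S] [Algebra k S] (σ : T →+* S), Function.Surjective σ →
        (∀ f, σ (algebraMap _ T f) = algebraMap k S (MvPolynomial.eval t f)) →
        ringKrullDim S + (c : WithBot ℕ∞) ≤ (n : WithBot ℕ∞) := by
  classical
  let P := MvPolynomial (Fin m) k
  let K := FractionRing P
  rcases subsingleton_or_nontrivial (K ⊗[P] T) with hs | hn
  · have h1 : (1 : K) ⊗ₜ[P] (1 : T) = 0 := Subsingleton.elim _ _
    let _ : Algebra T (K ⊗[P] T) := Algebra.TensorProduct.rightAlgebra
    have hloc : IsLocalization (Algebra.algebraMapSubmonoid T P⁰) (K ⊗[P] T) := inferInstance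
    have h2 : algebraMap T (K ⊗[P] T) 1 = 0 := Subsingleton.elim _ _
    rw [IsLocalization.map_eq_zero_iff (Algebra.algebraMapSubmonoid T P⁰)] at h2
    obtain ⟨⟨_, d, hd, rfl⟩, h3⟩ := h2
    dsimp only at h3
    rw [mul_one] at h3
    refine ⟨d, nonZeroDivisors.ne_zero hd, ?_⟩
    intro t ht S _ _ σ hσ hσt
    have h4 : algebraMap k S (MvPolynomial.eval t d) = 0 := by
      rw [← hσt, h3, map_zero]
    have h5 : Subsingleton S := by
      refine subsingleton_of_zero_eq_one ?_
      rw [← map_one (algebraMap k S), ← mul_inv_cancel₀ ht, map_mul, h4, zero_mul]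
    rw [ringKrullDim_eq_bot_of_subsingleton]
    exact bot_le
  · obtain ⟨s, g, hginj, hgfin, -⟩ := Groth.Agent.FlatA.DimFin.exists_noether K (K ⊗[P] T)
    obtain ⟨q, hq, hqs⟩ := exists_prime g hginj
    have hsn : s + c ≤ n := by
      have h1 := (add_le_add hqs (le_refl (c : Cardinal.{u}))).trans (h q hq)
      have h2 : m + s + c ≤ n + m := by exact_mod_cast h1
      omega
    obtain ⟨τ, hτ⟩ := K468.Cnt.integral_multiple g hgfin.to_isIntegral
    obtain ⟨S₀, hS₀⟩ := (inferInstance : Algebra.FiniteType P T).out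
    let e := S₀.equivFin
    let a : Fin S₀.card → T := fun j => (e.symm j).1
    have ha : Algebra.adjoin P (Set.range a) = ⊤ := by
      rw [← hS₀]
      congr 1
      ext x
      constructor
      · rintro ⟨j, rfl⟩
        exact (e.symm j).2
      · intro hx
        exact ⟨e ⟨x, hx⟩, by simp [a]⟩
    choose d hd p hp h0 using fun j => hτ (a j)
    refine ⟨∏ j, d j, Finset.prod_ne_zero_iff.mpr fun j _ => hd j, ?_⟩
    intro t ht S _ _ σ hσ hσt
    rw [map_prod, Finset.prod_ne_zero_iff] at ht
    have h5 := dim_le_of_core τ a ha d p hp h0 t (fun j => ht j (Finset.mem_univ _)) σ hσ hσt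
    calc ringKrullDim S + (c : WithBot ℕ∞) ≤ (s : WithBot ℕ∞) + (c : WithBot ℕ∞) := add_le_add h5 le_rfl
      _ ≤ (n : WithBot ℕ∞) := by exact_mod_cast hsn

end K360.DegenSpread
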