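import Groth.Agent.Coherent.K360.DegenTrdeg
import Groth.Agent.Coherent.K360.DegenSpread
import Groth.Agent.Flat2F.TrdegDim

/-!
# Degeneracy loci of general members of a spanning linear family of matrices

`R` a finitely generated algebra over a field `k`, `dim R ≤ n`, `N : Fin m → Matrix ρ γ R` a family of matrices whose
`R`-span is the space of all matrices supported in `S`.

* `exists_poly_dim`: abstract form.
* `exists_poly_rank`: `S` everything: for general `t ∈ k^m` the locus where `∑ t l • N l` has rank at most `r` has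
  dimension at most `n - (#γ - r) (#ρ - r)`.
* `exists_poly_block`: the block triangular case.
-/

set_option autoImplicit false
universe u

namespace K360.DegenRing

open K821.Minors

section Dom

variable {A D : Type u} [CommRing A] [IsDomain A] [CommRing D] [IsDomain D] [Algebra A D] [FaithfulSMul A D]
  {ρ γ : Type*} [DecidableEq ρ] [DecidableEq γ]

attribute [local instance] FractionRing.liftAlgebra

theorem trdeg_domain_le {m : ℕ} (t : Fin m → D) (hgen : Algebra.adjoin A (Set.range t) = ⊤)
    (N : Fin m → Matrix ρ γ A) (S : Finset (ρ × γ)) (hS : ∀ l i j, (i, j) ∉ S → N l i j = 0)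
    (hspan : ∀ x ∈ S, ∃ a : Fin m → A, ∀ y ∈ S, ∑ l, a l * N l y.1 y.2 = if y = x then 1 else 0)
    (J W : Finset γ) (hJW : Disjoint J W) (w : γ → γ → FractionRing D)
    (hw : ∀ s ∈ J, ∀ i, algebraMap D (FractionRing D) (∑ l, t l * algebraMap A D (N l i s)) =
      ∑ j ∈ W, w s j * algebraMap D (FractionRing D) (∑ l, t l * algebraMap A D (N l i j)))
    (c : ℕ) (hc : c + J.card * W.card ≤ (S.filter fun x => x.2 ∈ J).card) :
    ∃ d : ℕ, Algebra.trdeg A D ≤ (d : Cardinal.{u}) ∧ d + c ≤ m := by
  classical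
  let F := FractionRing A
  let L := FractionRing D
  have hsAL : FaithfulSMul A L := inferInstance
  let _ : Algebra F L := FractionRing.liftAlgebra A L
  have htow : IsScalarTower A F L := FractionRing.isScalarTower_liftAlgebra A L
  let t' : Fin m → L := fun l => algebraMap D L (t l)
  have hD : ∀ x : D, algebraMap D L x ∈ Algebra.adjoin F (Set.range t') := by
    intro x
    have hx : x ∈ Algebra.adjoin A (Set.range t) := by rw [hgen]; trivial
    induction hx using Algebra.adjoin_induction with
    | mem x hx =>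
      obtain ⟨l, rfl⟩ := hx
      exact Algebra.subset_adjoin ⟨l, rfl⟩
    | algebraMap r =>
      rw [← IsScalarTower.algebraMap_apply, IsScalarTower.algebraMap_apply A F L]
      exact Subalgebra.algebraMap_mem _ _
    | add x y _ _ hx hy => rw [map_add]; exact add_mem hx hy
    | mul x y _ _ hx hy => rw [map_mul]; exact mul_mem hx hy
  have halg : Algebra.IsAlgebraic (Algebra.adjoin F (Set.range t')) L := by
    constructor
    intro x
    obtain ⟨a, b, hb, rfl⟩ := IsFractionRing.div_surjective (A := D) x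
    have hb0 : algebraMap D L b ≠ 0 := by
      rw [Ne, FaithfulSMul.algebraMap_eq_zero_iff]
      exact nonZeroDivisors.ne_zero hb
    refine ⟨Polynomial.C ⟨_, hD b⟩ * Polynomial.X - Polynomial.C ⟨_, hD a⟩, ?_, ?_⟩
    · intro h0
      have h1 := congrArg (fun f => Polynomial.coeff f 1) h0
      simp only [Polynomial.coeff_sub, Polynomial.coeff_C_mul, Polynomial.coeff_X_one, mul_one,
        Polynomial.coeff_C_succ, sub_zero, Polynomial.coeff_zero] at h1
      exact hb0 (congrArg Subtype.val h1)
    · rw [map_sub, map_mul, Polynomial.aeval_C, Polynomial.aeval_C, Polynomial.aeval_X, sub_eq_zero]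
      change algebraMap D L b * (algebraMap D L a / algebraMap D L b) = algebraMap D L a
      rw [mul_div_cancel₀ _ hb0]
  let N' : Fin m → Matrix ρ γ F := fun l => (N l).map (algebraMap A F)
  have hy : ∀ i j, algebraMap D L (∑ l, t l * algebraMap A D (N l i j)) =
      ∑ l, t' l * algebraMap F L (N' l i j) := by
    intro i j
    rw [map_sum]
    refine Finset.sum_congr rfl fun l _ => ?_
    rw [map_mul, ← IsScalarTower.algebraMap_apply A D L]
    congr 1
    exact IsScalarTower.algebraMap_apply A F L _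
  have hli : LinearIndependent F (fun x : S => fun l => N' l x.1.1 x.1.2) := by
    rw [Fintype.linearIndependent_iff]
    intro g hg x
    obtain ⟨a, ha⟩ := hspan x.1 x.2
    have h1 : ∑ l, algebraMap A F (a l) * (∑ y : S, g y • (fun l => N' l y.1.1 y.1.2)) l = 0 := by
      rw [hg]
      simp
    have h2 : ∑ l, algebraMap A F (a l) * (∑ y : S, g y • (fun l => N' l y.1.1 y.1.2)) l =
        ∑ y : S, g y * algebraMap A F (∑ l, a l * N l y.1.1 y.1.2) := by
      have e1 : ∀ l, (∑ y : S, g y • (fun l => N' l y.1.1 y.1.2)) l =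
          ∑ y : S, g y * algebraMap A F (N l y.1.1 y.1.2) := fun l => by
        rw [Finset.sum_apply]
        rfl
      calc ∑ l, algebraMap A F (a l) * (∑ y : S, g y • (fun l => N' l y.1.1 y.1.2)) l
          = ∑ l, ∑ y : S, algebraMap A F (a l) * (g y * algebraMap A F (N l y.1.1 y.1.2)) :=
            Finset.sum_congr rfl fun l _ => by rw [e1, Finset.mul_sum]
        _ = ∑ y : S, ∑ l, algebraMap A F (a l) * (g y * algebraMap A F (N l y.1.1 y.1.2)) := Finset.sum_comm
        _ = ∑ y : S, g y * algebraMap A F (∑ l, a l * N l y.1.1 y.1.2) := by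
            refine Finset.sum_congr rfl fun y _ => ?_
            rw [map_sum, Finset.mul_sum]
            refine Finset.sum_congr rfl fun l _ => ?_
            rw [map_mul]
            ring
    rw [h2, Finset.sum_eq_single x] at h1
    · rw [ha x.1 x.2, if_pos rfl, map_one, mul_one] at h1
      exact h1
    · intro y _ hyx
      rw [ha y.1 y.2, if_neg (fun h => hyx (Subtype.ext h)), map_zero, mul_zero]
    · intro h
      exact absurd (Finset.mem_univ x) h
  obtain ⟨d, h1, h2⟩ := DegenTrdeg.trdeg_le t' N' S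
    (fun l i j hij => by
      change algebraMap A F (N l i j) = 0
      rw [hS l i j hij, map_zero]) hli J W hJW w
    (fun s hs i => by
      rw [← hy]
      refine (hw s hs i).trans (Finset.sum_congr rfl fun j _ => ?_)
      rw [← hy]) c hc
  refine ⟨d, le_trans ?_ h1, h2⟩
  refine Groth.Agent.Flat2F.TrdegDim.trdeg_le_of_fractionRing (K := F) (algebraMap D L)
    (FaithfulSMul.algebraMap_injective D L) fun a => ?_
  rw [← IsScalarTower.algebraMap_apply, ← IsScalarTower.algebraMap_apply]

end Dom

section Gen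

variable {R : Type u} [CommRing R] {m : ℕ} {ρ γ : Type*}

/-- The generic member of a linear family of matrices. -/
noncomputable def gen (N : Fin m → Matrix ρ γ R) : Matrix ρ γ (MvPolynomial (Fin m) R) :=
  Matrix.of fun i j => ∑ l, MvPolynomial.X l * MvPolynomial.C (N l i j)

theorem gen_apply (N : Fin m → Matrix ρ γ R) (i : ρ) (j : γ) :
    gen N i j = ∑ l, MvPolynomial.X l * MvPolynomial.C (N l i j) := rfl

/-- The members of a linear family of matrices. -/
def mem (N : Fin m → Matrix ρ γ R) (t : Fin m → R) : Matrix ρ γ R :=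
  Matrix.of fun i j => ∑ l, t l * N l i j

theorem mem_apply (N : Fin m → Matrix ρ γ R) (t : Fin m → R) (i : ρ) (j : γ) :
    mem N t i j = ∑ l, t l * N l i j := rfl

theorem gen_map (N : Fin m → Matrix ρ γ R) (t : Fin m → R) :
    (gen N).map (MvPolynomial.eval t) = mem N t := by
  ext i j
  rw [Matrix.map_apply, gen_apply, mem_apply, map_sum]
  refine Finset.sum_congr rfl fun l _ => ?_
  rw [map_mul, MvPolynomial.eval_X, MvPolynomial.eval_C]

end Gen

section Main

variable {k : Type u} [Field k] {R : Type u} [CommRing R] [Algebra k R] [Algebra.FiniteType k R] {m : ℕ}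
  {ρ γ : Type*} [DecidableEq ρ] [DecidableEq γ]

attribute [local instance] MvPolynomial.algebraMvPolynomial

theorem trdeg_quotient_le (n : ℕ) (hn : ringKrullDim R ≤ n) (N : Fin m → Matrix ρ γ R) (S : Finset (ρ × γ))
    (hS : ∀ l i j, (i, j) ∉ S → N l i j = 0)
    (hspan : ∀ x ∈ S, ∃ a : Fin m → R, ∀ y ∈ S, ∑ l, a l * N l y.1 y.2 = if y = x then 1 else 0)
    (c : ℕ) (q : Ideal (MvPolynomial (Fin m) R)) (hq : q.IsPrime)
    (H : ∀ (L : Type u) [Field L] (φ : MvPolynomial (Fin m) R →+* L), (∀ x ∈ q, φ x = 0) →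
      ∃ (J W : Finset γ) (w : γ → γ → L), Disjoint J W ∧
        (∀ s ∈ J, ∀ i, φ (gen N i s) = ∑ j ∈ W, w s j * φ (gen N i j)) ∧
        c + J.card * W.card ≤ (S.filter fun x => x.2 ∈ J).card) :
    Algebra.trdeg k (MvPolynomial (Fin m) R ⧸ q) + (c : Cardinal.{u}) ≤ ((n + m : ℕ) : Cardinal.{u}) := by
  classical
  let p : Ideal R := q.comap MvPolynomial.C
  have hp : p.IsPrime := hq.comap _
  let A := R ⧸ p
  let D := MvPolynomial (Fin m) R ⧸ q
  let φ : A →+* D := Ideal.quotientMap q MvPolynomial.C le_rfl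
  have hφ : Function.Injective φ := Ideal.quotientMap_injective' le_rfl
  let _ : Algebra A D := φ.toAlgebra
  have hAD : FaithfulSMul A D := (faithfulSMul_iff_algebraMap_injective _ _).mpr hφ
  have hkA : FaithfulSMul k A := (faithfulSMul_iff_algebraMap_injective _ _).mpr (algebraMap k A).injective
  have htow : IsScalarTower k A D := IsScalarTower.of_algebraMap_eq fun a => rfl
  let t : Fin m → D := fun l => Ideal.Quotient.mk q (MvPolynomial.X l)
  have hgen : Algebra.adjoin A (Set.range t) = ⊤ := by
    rw [eq_top_iff]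
    rintro x -
    obtain ⟨x, rfl⟩ := Ideal.Quotient.mk_surjective x
    induction x using MvPolynomial.induction_on with
    | C a => exact Subalgebra.algebraMap_mem (Algebra.adjoin A (Set.range t)) (Ideal.Quotient.mk p a)
    | add x y hx hy => rw [map_add]; exact add_mem hx hy
    | mul_X x l hx => rw [map_mul]; exact mul_mem hx (Algebra.subset_adjoin ⟨l, rfl⟩)
  obtain ⟨J, W, w, hJW, hw, hc⟩ := H (FractionRing D) ((algebraMap D (FractionRing D)).comp (Ideal.Quotient.mk q))
    (fun x hx => by rw [RingHom.comp_apply, Ideal.Quotient.eq_zero_iff_mem.2 hx, map_zero])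
  let N' : Fin m → Matrix ρ γ A := fun l => (N l).map (Ideal.Quotient.mk p)
  have hy : ∀ i j, algebraMap D (FractionRing D) (∑ l, t l * algebraMap A D (N' l i j)) =
      ((algebraMap D (FractionRing D)).comp (Ideal.Quotient.mk q)) (gen N i j) := by
    intro i j
    rw [RingHom.comp_apply, gen_apply, map_sum (Ideal.Quotient.mk q)]
    congr 1
  obtain ⟨d, h1, h2⟩ := trdeg_domain_le t hgen N' S
    (fun l i j hij => by
      change Ideal.Quotient.mk p (N l i j) = 0
      rw [hS l i j hij, map_zero])
    (fun x hx => by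
      obtain ⟨a, ha⟩ := hspan x hx
      refine ⟨fun l => Ideal.Quotient.mk p (a l), fun y hy => ?_⟩
      have := congrArg (Ideal.Quotient.mk p) (ha y hy)
      rw [map_sum] at this
      refine Eq.trans (Finset.sum_congr rfl fun l _ => ?_) (this.trans ?_)
      · rw [map_mul]; rfl
      · split_ifs
        · exact map_one _
        · exact map_zero _)
    J W hJW w
    (fun s hs i => by
      rw [hy]
      refine (hw s hs i).trans (Finset.sum_congr rfl fun j _ => ?_)
      rw [hy]) c hc
  have h3 := trdeg_add_eq (R := k) (S := A) (A := D)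
  have h4 : Algebra.trdeg k A ≤ (n : Cardinal.{u}) := Groth.Agent.Flat2F.TrdegDim.trdeg_quotient_le p n hn
  have h5 : Algebra.trdeg k D + (c : Cardinal.{u}) ≤ ((n + (d + c) : ℕ) : Cardinal.{u}) := by
    rw [← h3]
    push_cast
    rw [add_assoc]
    exact add_le_add h4 (add_le_add h1 le_rfl)
  refine h5.trans ?_
  exact_mod_cast Nat.add_le_add_left h2 n

/-- **Dimension of the degeneracy locus of a general member, abstract form.** -/
theorem exists_poly_dim (n : ℕ) (hn : ringKrullDim R ≤ n) (N : Fin m → Matrix ρ γ R) (S : Finset (ρ × γ))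
    (hS : ∀ l i j, (i, j) ∉ S → N l i j = 0)
    (hspan : ∀ x ∈ S, ∃ a : Fin m → R, ∀ y ∈ S, ∑ l, a l * N l y.1 y.2 = if y = x then 1 else 0)
    (c : ℕ) (I : Ideal (MvPolynomial (Fin m) R))
    (H : ∀ (L : Type u) [Field L] (φ : MvPolynomial (Fin m) R →+* L), (∀ x ∈ I, φ x = 0) →
      ∃ (J W : Finset γ) (w : γ → γ → L), Disjoint J W ∧
        (∀ s ∈ J, ∀ i, φ (gen N i s) = ∑ j ∈ W, w s j * φ (gen N i j)) ∧
        c + J.card * W.card ≤ (S.filter fun x => x.2 ∈ J).card) :
    ∃ p : MvPolynomial (Fin m) k, p ≠ 0 ∧ ∀ t : Fin m → k, MvPolynomial.eval t p ≠ 0 →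
      ringKrullDim (R ⧸ I.map (MvPolynomial.eval fun l => algebraMap k R (t l))) + (c : WithBot ℕ∞) ≤
        (n : WithBot ℕ∞) := by
  let T := MvPolynomial (Fin m) R ⧸ I
  have hft : Algebra.FiniteType (MvPolynomial (Fin m) k) T :=
    Algebra.FiniteType.of_restrictScalars_finiteType k (MvPolynomial (Fin m) k) T
  obtain ⟨p, hp0, hp⟩ := DegenSpread.exists_poly (k := k) (T := T) n c (fun q hq => by
    let Q : Ideal (MvPolynomial (Fin m) R) := q.comap (Ideal.Quotient.mk I)
    have hQ : Q.IsPrime := hq.comap _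
    have hIQ : I ≤ Q := fun x hx => by
      rw [Ideal.mem_comap, Ideal.Quotient.eq_zero_iff_mem.2 hx]
      exact q.zero_mem
    have h1 := trdeg_quotient_le (k := k) n hn N S hS hspan c Q hQ (fun L _ φ hφ => H L φ fun x hx => hφ x (hIQ hx))
    let f : T ⧸ q →ₐ[k] MvPolynomial (Fin m) R ⧸ Q :=
      Ideal.Quotient.liftₐ q (Ideal.Quotient.factorₐ k hIQ) (fun x hx => by
        obtain ⟨x, rfl⟩ := Ideal.Quotient.mk_surjective x
        exact Ideal.Quotient.eq_zero_iff_mem.2 hx)
    have hf : Function.Injective f := by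
      rw [injective_iff_map_eq_zero]
      intro x hx
      obtain ⟨x, rfl⟩ := Ideal.Quotient.mk_surjective x
      obtain ⟨x, rfl⟩ := Ideal.Quotient.mk_surjective x
      have h2 : x ∈ Q := Ideal.Quotient.eq_zero_iff_mem.1 hx
      exact Ideal.Quotient.eq_zero_iff_mem.2 h2
    exact (add_le_add (trdeg_le_of_injective f hf) le_rfl).trans h1)
  refine ⟨p, hp0, fun t ht => ?_⟩
  let ev : MvPolynomial (Fin m) R →+* R := MvPolynomial.eval fun l => algebraMap k R (t l)
  refine hp t ht (R ⧸ I.map ev) (Ideal.quotientMap _ ev Ideal.le_comap_map) ?_ ?_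
  · intro x
    obtain ⟨x, rfl⟩ := Ideal.Quotient.mk_surjective x
    refine ⟨Ideal.Quotient.mk I (MvPolynomial.C x), ?_⟩
    change Ideal.Quotient.mk _ (ev (MvPolynomial.C x)) = _
    rw [MvPolynomial.eval_C]
  · intro f
    change Ideal.Quotient.mk _ (ev (MvPolynomial.map (algebraMap k R) f)) = Ideal.Quotient.mk _ (algebraMap k R _)
    congr 1
    rw [MvPolynomial.eval_map, MvPolynomial.eval₂_eq_eval_map]
    induction f using MvPolynomial.induction_on with
    | C a => simp
    | add x y hx hy => simp only [map_add, hx, hy]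
    | mul_X x l hx => simp only [map_mul, hx, MvPolynomial.map_X, MvPolynomial.eval_X]

/-- **General matrices have determinantal loci of the expected codimension (upper bound for the dimension).** -/
theorem exists_poly_rank [Fintype ρ] [Fintype γ] (n : ℕ) (hn : ringKrullDim R ≤ n) (N : Fin m → Matrix ρ γ R)
    (hspan : ∀ x : ρ × γ, ∃ a : Fin m → R, ∀ y : ρ × γ, ∑ l, a l * N l y.1 y.2 = if y = x then 1 else 0)
    (r : ℕ) (hrρ : r ≤ Fintype.card ρ) (hrγ : r ≤ Fintype.card γ) :
    ∃ p : MvPolynomial (Fin m) k, p ≠ 0 ∧ ∀ t : Fin m → k, MvPolynomial.eval t p ≠ 0 →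
      ringKrullDim (R ⧸ minorIdeal (r + 1) (mem N fun l => algebraMap k R (t l))) +
        (((Fintype.card γ - r) * (Fintype.card ρ - r) : ℕ) : WithBot ℕ∞) ≤ (n : WithBot ℕ∞) := by
  obtain ⟨p, hp0, hp⟩ := exists_poly_dim (k := k) n hn N Finset.univ
    (fun l i j hij => absurd (Finset.mem_univ _) hij)
    (fun x _ => by
      obtain ⟨a, ha⟩ := hspan x
      exact ⟨a, fun y _ => ha y⟩)
    ((Fintype.card γ - r) * (Fintype.card ρ - r)) (minorIdeal (r + 1) (gen N)) (fun L _ φ hφ => by
      have h1 : minorIdeal (r + 1) ((gen N).map φ) = ⊥ := by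
        rw [minorIdeal_map, Ideal.map_eq_bot_iff_le_ker]
        exact hφ
      obtain ⟨W, w, hW, hw⟩ := DegenTrdeg.exists_cols r hrγ _ h1
      refine ⟨Wᶜ, W, w, disjoint_compl_left, fun s _ i => hw s i, ?_⟩
      have h2 : (Finset.univ.filter fun x : ρ × γ => x.2 ∈ Wᶜ) = Finset.univ ×ˢ Wᶜ := by
        ext x
        simp
      rw [h2, Finset.card_product, Finset.card_compl, hW, Finset.card_univ]
      obtain ⟨a, ha⟩ := Nat.exists_eq_add_of_le hrρ
      rw [ha, Nat.add_sub_cancel_left]
      exact le_of_eq (by ring))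
  refine ⟨p, hp0, fun t ht => ?_⟩
  have h1 := hp t ht
  rw [← minorIdeal_map, gen_map] at h1
  exact h1

end Main

end K360.DegenRing
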