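import Groth.Agent.Coherent.K360.DegenRing
import Groth.Agent.QuotLF.K821.MinorRank
import Mathlib.RingTheory.Smooth.Basic
import Mathlib.RingTheory.Smooth.StandardSmooth
import Mathlib.RingTheory.Ideal.Quotient.Nilpotent

/-!
# The generic determinantal locus is smooth where the rank does not drop further

`Chart N a b`: the universal algebra over `R` with a point `t` of affine `m`-space at which the `(r + 1)`-minors of
`∑ t l • N l` vanish and the `r`-minor with rows `a` and columns `b` is invertible.

* `exists_hom`, `hom_ext`: the universal property.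
* `formallySmooth`: it is formally smooth over `R` if the `N l` generate the module of all matrices.
-/

set_option autoImplicit false
universe u

namespace K360.DegenSmooth

open K821.Minors K360.DegenRing

variable {R : Type u} [CommRing R] {m r : ℕ} {ρ γ : Type*}

/-- the minor made invertible -/
noncomputable abbrev delta (N : Fin m → Matrix ρ γ R) (a : Fin r → ρ) (b : Fin r → γ) : MvPolynomial (Fin m) R :=
  ((gen N).submatrix a b).det

/-- the localization of the polynomial ring -/
abbrev Loc (N : Fin m → Matrix ρ γ R) (a : Fin r → ρ) (b : Fin r → γ) : Type u :=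
  Localization.Away (delta N a b)

/-- the universal chart -/
abbrev Chart (N : Fin m → Matrix ρ γ R) (a : Fin r → ρ) (b : Fin r → γ) : Type u :=
  Loc N a b ⧸ (minorIdeal (r + 1) (gen N)).map (algebraMap (MvPolynomial (Fin m) R) (Loc N a b))

section Univ

variable (N : Fin m → Matrix ρ γ R) (a : Fin r → ρ) (b : Fin r → γ) {Z : Type*} [CommRing Z]

theorem exists_hom (F : MvPolynomial (Fin m) R →+* Z) (hu : IsUnit (F (delta N a b)))
    (h0 : ∀ x ∈ minorIdeal (r + 1) (gen N), F x = 0) :
    ∃ G : Chart N a b →+* Z, G.comp (algebraMap (MvPolynomial (Fin m) R) (Chart N a b)) = F := by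
  let G₀ : Loc N a b →+* Z := IsLocalization.Away.lift (delta N a b) hu
  have hG₀ : ∀ x, G₀ (algebraMap (MvPolynomial (Fin m) R) (Loc N a b) x) = F x := fun x =>
    IsLocalization.Away.lift_eq (delta N a b) hu x
  have hle : (minorIdeal (r + 1) (gen N)).map (algebraMap (MvPolynomial (Fin m) R) (Loc N a b)) ≤
      RingHom.ker G₀ := by
    rw [Ideal.map_le_iff_le_comap]
    intro x hx
    rw [Ideal.mem_comap, RingHom.mem_ker, hG₀]
    exact h0 x hx
  refine ⟨Ideal.Quotient.lift _ G₀ fun x hx => hle hx, ?_⟩
  refine RingHom.ext fun x => ?_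
  exact hG₀ x

theorem hom_ext {G G' : Chart N a b →+* Z}
    (h : G.comp (algebraMap (MvPolynomial (Fin m) R) (Chart N a b)) =
      G'.comp (algebraMap (MvPolynomial (Fin m) R) (Chart N a b))) : G = G' := by
  refine Ideal.Quotient.ringHom_ext ?_
  exact IsLocalization.ringHom_ext (Submonoid.powers (delta N a b)) h

theorem isUnit_delta : IsUnit (algebraMap (MvPolynomial (Fin m) R) (Chart N a b) (delta N a b)) :=
  (IsLocalization.Away.algebraMap_isUnit (S := Loc N a b) (delta N a b)).map (Ideal.Quotient.mk _)

theorem minor_eq_zero (x : MvPolynomial (Fin m) R) (hx : x ∈ minorIdeal (r + 1) (gen N)) :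
    algebraMap (MvPolynomial (Fin m) R) (Chart N a b) x = 0 :=
  Ideal.Quotient.eq_zero_iff_mem.2 (Ideal.mem_map_of_mem _ hx)

end Univ

section Smooth

theorem submatrix_map {Z Z' : Type*} [CommRing Z] [CommRing Z'] (f : Z →+* Z') (M : Matrix ρ γ Z) {s : ℕ}
    (a : Fin s → ρ) (b : Fin s → γ) : f (M.submatrix a b).det = ((M.map f).submatrix a b).det := by
  rw [RingHom.map_det]
  rfl

variable [Fintype ρ] [Fintype γ] [DecidableEq ρ] [DecidableEq γ]

/-- **Formal smoothness of the generic stratum.** -/
theorem formallySmooth (N : Fin m → Matrix ρ γ R)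
    (hspan : ∀ x : ρ × γ, ∃ c : Fin m → R, ∀ y : ρ × γ, ∑ l, c l * N l y.1 y.2 = if y = x then 1 else 0)
    (a : Fin r → ρ) (b : Fin r → γ) : Algebra.FormallySmooth R (Chart N a b) := by
  choose c hc using hspan
  refine Algebra.FormallySmooth.of_comp_surjective fun Z _ _ I hI g => ?_
  let P := MvPolynomial (Fin m) R
  let gP : P →ₐ[R] Z ⧸ I := g.comp (Algebra.algHom R P (Chart N a b))
  choose z hz using fun l => Ideal.Quotient.mk_surjective (gP (MvPolynomial.X l))
  let F₀ : P →ₐ[R] Z := MvPolynomial.aeval z
  have hF₀ : (Ideal.Quotient.mkₐ R I).comp F₀ = gP := by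
    apply MvPolynomial.algHom_ext
    intro l
    rw [AlgHom.comp_apply, MvPolynomial.aeval_X]
    exact hz l
  -- the matrices
  let M : Matrix ρ γ Z := (gen N).map F₀
  let Mb : Matrix ρ γ (Z ⧸ I) := M.map (Ideal.Quotient.mk I)
  have hMb : Mb = (gen N).map gP := by
    ext i j
    exact AlgHom.congr_fun hF₀ (gen N i j)
  have hub : IsUnit ((Mb.submatrix a b).det) := by
    rw [hMb]
    have h1 : ((gen N).map gP).submatrix a b = ((gen N).map (gP : P →+* Z ⧸ I)).submatrix a b := rfl
    rw [h1, ← submatrix_map]
    exact (isUnit_delta N a b).map g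
  have hnil : IsNilpotent I := ⟨2, hI⟩
  have hu : IsUnit (M.submatrix a b).det := by
    rw [← hnil.isUnit_quotient_mk_iff, submatrix_map]
    exact hub
  have h0b : minorIdeal (r + 1) Mb = ⊥ := by
    have h1 : Mb = (gen N).map (gP : P →+* Z ⧸ I) := hMb
    rw [h1, minorIdeal_map, Ideal.map_eq_bot_iff_le_ker]
    intro x hx
    rw [RingHom.mem_ker]
    change g (algebraMap P (Chart N a b) x) = 0
    rw [minor_eq_zero N a b x hx, map_zero]
  obtain ⟨w, hw⟩ := hu.exists_right_inv
  let G : Matrix ρ (Fin r) Z := Matrix.of fun i k => w * (M.submatrix (Function.update a k i) b).det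
  let M' : Matrix ρ γ Z := G * M.submatrix a id
  have hM' : M'.map (Ideal.Quotient.mk I) = Mb := by
    ext i j
    have h1 := K821.MinorRank.bordered Mb h0b a b i j
    have h4 : M' i j = ∑ k, G i k * M.submatrix a id k j := Matrix.mul_apply
    rw [Matrix.map_apply, h4, map_sum]
    have h2 : ∀ k, Ideal.Quotient.mk I (G i k * M.submatrix a id k j) =
        Ideal.Quotient.mk I w * ((Mb.submatrix (Function.update a k i) b).det * Mb (a k) j) := by
      intro k
      have h5 : G i k = w * (M.submatrix (Function.update a k i) b).det := rfl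
      rw [map_mul, h5, map_mul, submatrix_map, mul_assoc]
      rfl
    rw [Finset.sum_congr rfl fun k _ => h2 k, ← Finset.mul_sum, ← h1, ← mul_assoc]
    have h3 : Ideal.Quotient.mk I w * (Mb.submatrix a b).det = 1 := by
      rw [← submatrix_map, ← map_mul, mul_comm, hw, map_one]
    rw [h3, one_mul]
  have hd : ∀ i j, M' i j - M i j ∈ I := by
    intro i j
    rw [← Ideal.Quotient.eq_zero_iff_mem, map_sub, sub_eq_zero]
    exact congrFun (congrFun hM' i) j
  -- the correction
  let z' : Fin m → Z := fun l => z l + ∑ x : ρ × γ, algebraMap R Z (c x l) * (M' x.1 x.2 - M x.1 x.2)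
  let F : P →ₐ[R] Z := MvPolynomial.aeval z'
  have hFM : ∀ (y : Fin m → Z) i j, (MvPolynomial.aeval (R := R) y) (gen N i j) = ∑ l, y l * algebraMap R Z (N l i j) := by
    intro y i j
    rw [gen_apply, map_sum]
    refine Finset.sum_congr rfl fun l _ => ?_
    rw [map_mul, MvPolynomial.aeval_X, MvPolynomial.algHom_C]
  have hF : (gen N).map F = M' := by
    ext i j
    rw [Matrix.map_apply, hFM]
    have h1 : M i j = ∑ l, z l * algebraMap R Z (N l i j) := hFM z i j
    simp only [z', add_mul, Finset.sum_add_distrib]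
    rw [← h1]
    have h2 : ∑ l, (∑ x : ρ × γ, algebraMap R Z (c x l) * (M' x.1 x.2 - M x.1 x.2)) * algebraMap R Z (N l i j) =
        M' i j - M i j := by
      calc ∑ l, (∑ x : ρ × γ, algebraMap R Z (c x l) * (M' x.1 x.2 - M x.1 x.2)) * algebraMap R Z (N l i j)
          = ∑ l, ∑ x : ρ × γ, (M' x.1 x.2 - M x.1 x.2) * algebraMap R Z (c x l * N l i j) :=
            Finset.sum_congr rfl fun l _ => by
              rw [Finset.sum_mul]
              refine Finset.sum_congr rfl fun x _ => ?_
              rw [map_mul]
              ring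
        _ = ∑ x : ρ × γ, ∑ l, (M' x.1 x.2 - M x.1 x.2) * algebraMap R Z (c x l * N l i j) := Finset.sum_comm
        _ = ∑ x : ρ × γ, (M' x.1 x.2 - M x.1 x.2) * algebraMap R Z (∑ l, c x l * N l i j) :=
            Finset.sum_congr rfl fun x _ => by rw [map_sum, Finset.mul_sum]
        _ = M' i j - M i j := by
            rw [Finset.sum_eq_single (i, j)]
            · rw [hc (i, j) (i, j), if_pos rfl, map_one, mul_one]
            · intro x _ hx
              rw [hc x (i, j), if_neg (Ne.symm hx), map_zero, mul_zero]
            · intro h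
              exact absurd (Finset.mem_univ _) h
    rw [h2]
    ring
  have hmk : (Ideal.Quotient.mkₐ R I).comp F = gP := by
    apply MvPolynomial.algHom_ext
    intro l
    rw [AlgHom.comp_apply, MvPolynomial.aeval_X]
    refine Eq.trans ?_ (hz l)
    change Ideal.Quotient.mk I (z l + _) = _
    rw [map_add, add_eq_left, Ideal.Quotient.eq_zero_iff_mem]
    exact Ideal.sum_mem _ fun x _ => Ideal.mul_mem_left _ _ (hd x.1 x.2)
  obtain ⟨H, hH⟩ := exists_hom N a b (F : P →+* Z)
    (by
      rw [← hnil.isUnit_quotient_mk_iff]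
      have h1 : Ideal.Quotient.mk I ((F : P →+* Z) (delta N a b)) = gP (delta N a b) :=
        AlgHom.congr_fun hmk (delta N a b)
      rw [h1]
      exact (isUnit_delta N a b).map g)
    (fun x hx => by
      have h1 : (F : P →+* Z) x ∈ minorIdeal (r + 1) ((gen N).map (F : P →+* Z)) := by
        rw [minorIdeal_map]
        exact Ideal.mem_map_of_mem _ hx
      have h2 : (gen N).map (F : P →+* Z) = M' := hF
      rw [h2] at h1
      have h3 := minorIdeal_mul_le_right (r + 1) G (M.submatrix a id) h1
      rwa [minorIdeal_eq_bot_of_card_lt_left (r + 1) (M.submatrix a id) (by simp), Ideal.mem_bot] at h3)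
  have hHR : ∀ x : R, H (algebraMap R (Chart N a b) x) = algebraMap R Z x := by
    intro x
    have h1 := RingHom.congr_fun hH (algebraMap R P x)
    rw [RingHom.comp_apply, ← IsScalarTower.algebraMap_apply] at h1
    rw [h1]
    exact F.commutes x
  refine ⟨{ H with commutes' := hHR }, ?_⟩
  apply AlgHom.coe_ringHom_injective
  apply hom_ext N a b
  refine RingHom.ext fun x => ?_
  have h1 := RingHom.congr_fun hH x
  change Ideal.Quotient.mk I (H (algebraMap P (Chart N a b) x)) = g (algebraMap P (Chart N a b) x)
  rw [RingHom.comp_apply] at h1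
  rw [h1]
  exact AlgHom.congr_fun hmk x

end Smooth

end K360.DegenSmooth
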