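import Groth.Agent.Coherent.K360.DegenGen

/-!
# The strata of the degeneracy locus of a general morphism

* `smooth_stratum`: the stratum of rank exactly `r` is smooth.
* `dim_component`: its components have the expected dimension.
-/

set_option autoImplicit false
universe u

open CategoryTheory CategoryTheory.Limits AlgebraicGeometry TopologicalSpace Opposite

namespace K360.DegenStrat

open Groth.Agent K360.DegenChart K360.DegenRing K360.DegenGen K821.Minors K716.Td Groth.Agent.CohqB.FiniteType2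

section Dim

variable {k : Type u} [Field k] {X : Scheme.{u}} (q : X ⟶ Spec (CommRingCat.of k)) [LocallyOfFiniteType q]

theorem ringKrullDim_quotient_le {V : X.Opens} (hV : IsAffineOpen V) {x : X} (hx : x ∈ V) :
    ringKrullDim (Γ(X, V) ⧸ (hV.primeIdealOf ⟨x, hx⟩).asIdeal) ≤ (td q x : ℕ) := by
  let p : Ideal Γ(X, V) := (hV.primeIdealOf ⟨x, hx⟩).asIdeal
  let i : Spec (CommRingCat.of (Γ(X, V) ⧸ p)) ⟶ X :=
    Spec.map (CommRingCat.ofHom (Ideal.Quotient.mk p)) ≫ hV.fromSpec
  have hcl : IsClosedImmersion (Spec.map (CommRingCat.ofHom (Ideal.Quotient.mk p))) :=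
    IsClosedImmersion.spec_of_surjective _ Ideal.Quotient.mk_surjective
  have h3 : topologicalKrullDim (Spec (CommRingCat.of (Γ(X, V) ⧸ p))) = ringKrullDim (Γ(X, V) ⧸ p) :=
    PrimeSpectrum.topologicalKrullDim_eq_ringKrullDim _
  rw [← h3, dim_le_iff (i ≫ q)]
  intro z
  rw [td_comp, td_of_isPreimmersion i, add_zero]
  refine td_le_of_specializes q ?_ (Subsingleton.elim _ _)
  have h1 : hV.primeIdealOf ⟨x, hx⟩ ⤳ PrimeSpectrum.comap (Ideal.Quotient.mk p) z := by
    rw [← PrimeSpectrum.le_iff_specializes]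
    intro r hr
    change Ideal.Quotient.mk p r ∈ z.asIdeal
    rw [Ideal.Quotient.eq_zero_iff_mem.2 hr]
    exact Ideal.zero_mem _
  have h2 := h1.map hV.fromSpec.continuous
  rw [hV.fromSpec_primeIdealOf ⟨x, hx⟩] at h2
  exact h2

include q in
theorem le_ringKrullDim [IrreducibleSpace X] {V : X.Opens} (hV : IsAffineOpen V) {x : X} (hx : x ∈ V) {n : ℕ}
    (hn : (n : WithBot ℕ∞) ≤ topologicalKrullDim X) : (n : WithBot ℕ∞) ≤ ringKrullDim Γ(X, V) := by
  have h1 : genericPoint X ∈ V := ((genericPoint_spec X).mem_open_set_iff V.isOpen).2 ⟨x, trivial, hx⟩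
  have h2 : topologicalKrullDim X ≤ (td q (genericPoint X) : ℕ) :=
    (dim_le_iff q _).2 fun y => td_le_of_specializes q (genericPoint_specializes y) (Subsingleton.elim _ _)
  have h3 := le_dim (hV.fromSpec ≫ q) (hV.primeIdealOf ⟨_, h1⟩)
  rw [td_comp, td_of_isPreimmersion hV.fromSpec, add_zero, hV.fromSpec_primeIdealOf ⟨_, h1⟩] at h3
  have h4 : topologicalKrullDim (Spec Γ(X, V)) = ringKrullDim Γ(X, V) :=
    PrimeSpectrum.topologicalKrullDim_eq_ringKrullDim _
  rw [h4] at h3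
  exact (hn.trans h2).trans h3

end Dim

section Strat

variable {k : Type u} [Field k] {X : Scheme.{u}} [X.Over (Spec (CommRingCat.of k))]
  [LocallyOfFiniteType (X ↘ Spec (CommRingCat.of k))]
  {A B : X.Modules} {a b : ℕ} (hA : FlatMod.IsFinLocFreeOfRank a A) (hB : FlatMod.IsFinLocFreeOfRank b B)

include hA hB

omit [X.Over (Spec (CommRingCat.of k))] [LocallyOfFiniteType (X ↘ Spec (CommRingCat.of k))] in
/-- A point where the rank is at least `r`, in a chart. -/
theorem exists_minor {V : X.Opens} (hV : IsAffineOpen V) (e : Module.Basis (Fin a) Γ(X, V) Γ(A, V))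
    (f : Module.Basis (Fin b) Γ(X, V) Γ(B, V)) (φ : A ⟶ B) {r : ℕ} (hrb : r < b) {x : X} (hx : x ∈ V)
    (h : x ∉ (Fitt.sheafIdeal (cokernel φ) (b - r)).support) :
    ∃ (s : Fin r → Fin b) (t : Fin r → Fin a),
      ((mat e f φ).submatrix s t).det ∉ (hV.primeIdealOf ⟨x, hx⟩).asIdeal := by
  rw [SDiv.K474.FittLoc.mem_support_iff_le _ hV hx, fitt_ideal e f (isCoh_of_rank hA).1 (isCoh_of_rank hB).1
    (isCoh_of_rank hB).2 φ hV (b - r)] at h
  have h4 : Fintype.card (Fin b) - (b - r) = r := by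
    rw [Fintype.card_fin]
    omega
  rw [h4, minorIdeal_le_iff] at h
  push Not at h
  exact h

/-- **Smoothness of the stratum.** -/
theorem smooth_stratum (φ : A ⟶ B) {r : ℕ} (hrb : r < b) (D : X.IdealSheafData)
    (hD : D = Fitt.sheafIdeal (cokernel φ) (b - r - 1))
    (hQ : ∀ x : X, ∃ V : X.Opens, x ∈ V ∧ ∃ (hV : IsAffineOpen V) (e : Module.Basis (Fin a) Γ(X, V) Γ(A, V))
      (f : Module.Basis (Fin b) Γ(X, V) Γ(B, V)), ∀ (s : Fin r → Fin b) (t : Fin r → Fin a),
      Smooth (chartMap (k := k) (Fitt.sheafIdeal (cokernel φ) (b - r - 1))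
        (X.affineBasicOpen (U := ⟨V, hV⟩) ((mat e f φ).submatrix s t).det)))
    (W : D.subscheme.Opens)
    (hW : ∀ y ∈ W, D.subschemeι y ∉ (Fitt.sheafIdeal (cokernel φ) (b - r)).support) :
    Smooth (W.ι ≫ D.subschemeι ≫ (X ↘ Spec (CommRingCat.of k))) := by
  rw [← hD] at hQ
  let g := D.subschemeι ≫ (X ↘ Spec (CommRingCat.of k))
  have hcl : IsClosedImmersion D.subschemeι := inferInstance
  have hg : LocallyOfFiniteType g := inferInstance
  have hg' : LocallyOfFinitePresentation g := LocallyOfFinitePresentation.iff_locallyOfFiniteType.2 hg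
  have hg'' : LocallyOfFinitePresentation (W.ι ≫ g) := inferInstance
  change Smooth (W.ι ≫ g)
  rw [← Scheme.Hom.smoothLocus_eq_top_iff, ← Scheme.Hom.preimage_smoothLocus_eq, eq_top_iff]
  rintro w -
  change W.ι w ∈ g.smoothLocus
  obtain ⟨V, hxV, hV, e, f, hs⟩ := hQ (D.subschemeι (W.ι w))
  have h1 := hW (W.ι w) w.2
  obtain ⟨s, t, hst⟩ := exists_minor hA hB hV e f φ hrb hxV h1
  let U' : X.affineOpens := X.affineBasicOpen (U := ⟨V, hV⟩) ((mat e f φ).submatrix s t).det
  have h2 : D.subschemeι (W.ι w) ∈ U'.1 := (Fdesc.QCohStalk.mem_basicOpen_iff hV _ hxV _).2 hst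
  have h3 : W.ι w ∈ (D.subschemeCover.f U').opensRange := by
    rw [D.opensRange_subschemeCover_map U']
    exact h2
  obtain ⟨z, hz⟩ := h3
  rw [← hz]
  have h4 : Smooth (D.subschemeCover.f U' ≫ g) := by
    rw [chartMap_eq D U']
    exact hs s t
  have h5 : (D.subschemeCover.f U' ≫ g).smoothLocus = ⊤ := Scheme.Hom.smoothLocus_eq_top _
  rw [← Scheme.Hom.preimage_smoothLocus_eq] at h5
  have h6 : z ∈ (D.subschemeCover.f U') ⁻¹ᵁ g.smoothLocus := by
    rw [h5]
    trivial
  exact h6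

/-- **The dimension of the components of the stratum.** -/
theorem dim_component [AlgebraicGeometry.IsIntegral X] {n : ℕ} (hn : (n : WithBot ℕ∞) ≤ topologicalKrullDim X)
    (φ : A ⟶ B) {r : ℕ} (hrb : r < b) (D : X.IdealSheafData)
    (hD : D = Fitt.sheafIdeal (cokernel φ) (b - r - 1))
    (hdim : ∀ x : X, x ∈ D.support → td (X ↘ Spec (CommRingCat.of k)) x + (a - r) * (b - r) ≤ n)
    (W : D.subscheme.Opens)
    (hW : ∀ y, y ∈ W ↔ D.subschemeι y ∉ (Fitt.sheafIdeal (cokernel φ) (b - r)).support)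
    (Z : Set W) (hZ : Z ∈ irreducibleComponents W) :
    topologicalKrullDim Z = ((n - (a - r) * (b - r) : ℕ) : WithBot ℕ∞) := by
  have hcl : IsClosedImmersion D.subschemeι := inferInstance
  obtain ⟨ξ, hξ⟩ := QuasiSober.sober hZ.1 (isClosed_of_mem_irreducibleComponents _ hZ)
  let j : (W : Scheme.{u}) ⟶ X := W.ι ≫ D.subschemeι
  have hj : IsPreimmersion j := inferInstance
  let x : X := j ξ
  have hxD : x ∈ D.support := by
    have h1 : x ∈ Set.range D.subschemeι := ⟨W.ι ξ, rfl⟩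
    rwa [Scheme.IdealSheafData.range_subschemeι] at h1
  have hxW : x ∉ (Fitt.sheafIdeal (cokernel φ) (b - r)).support := (hW _).1 ξ.2
  have h1 : topologicalKrullDim Z = (td (X ↘ Spec (CommRingCat.of k)) x : ℕ) := by
    rw [← hξ.def, dim_closure (j ≫ (X ↘ Spec (CommRingCat.of k))) ξ, td_comp, td_of_isPreimmersion j, add_zero]
  have h2 := hdim x hxD
  suffices h : n ≤ td (X ↘ Spec (CommRingCat.of k)) x + (a - r) * (b - r) by
    rw [h1]
    congr 2
    omega
  -- a chart at `x`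
  obtain ⟨U₁, hx₁, hU₁⟩ := exists_basis_nhds hA x
  obtain ⟨U₂, hx₂, hU₂⟩ := exists_basis_nhds hB x
  obtain ⟨V, hV, hxV, hVU⟩ := exists_isAffineOpen_mem_and_subset (x := x) (U := U₁ ⊓ U₂) ⟨hx₁, hx₂⟩
  obtain ⟨e⟩ := hU₁ V (hVU.trans inf_le_left)
  obtain ⟨f⟩ := hU₂ V (hVU.trans inf_le_right)
  obtain ⟨s, t, hst⟩ := exists_minor hA hB hV e f φ hrb hxV hxW
  have h4 : Fintype.card (Fin b) - (b - r - 1) = r + 1 := by
    rw [Fintype.card_fin]
    omega
  have h3 := fitt_ideal e f (isCoh_of_rank hA).1 (isCoh_of_rank hB).1 (isCoh_of_rank hB).2 φ hV (b - r - 1)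
  rw [h4, ← hD] at h3
  have hmin : (hV.primeIdealOf ⟨x, hxV⟩).asIdeal ∈ (minorIdeal (r + 1) (mat e f φ)).minimalPrimes := by
    rw [← h3]
    refine ⟨⟨(hV.primeIdealOf ⟨x, hxV⟩).2, (SDiv.K474.FittLoc.mem_support_iff_le D hV hxV).1 hxD⟩,
      fun q' hq' hle => ?_⟩
    let z' : PrimeSpectrum Γ(X, V) := ⟨q', hq'.1⟩
    have hz : z' ⤳ hV.primeIdealOf ⟨x, hxV⟩ := (PrimeSpectrum.le_iff_specializes _ _).1 hle
    let x' : X := hV.fromSpec z'
    have hx'x : x' ⤳ x := by
      have h5 := hz.map hV.fromSpec.continuous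
      rwa [hV.fromSpec_primeIdealOf ⟨x, hxV⟩] at h5
    have hx'V : x' ∈ V := by
      have h5 : x' ∈ Set.range hV.fromSpec := ⟨z', rfl⟩
      rwa [hV.range_fromSpec] at h5
    have hz' : hV.primeIdealOf ⟨x', hx'V⟩ = z' := by
      refine hV.fromSpec.isOpenEmbedding.injective ?_
      exact hV.fromSpec_primeIdealOf ⟨x', hx'V⟩
    have hx'D : x' ∈ D.support := by
      rw [SDiv.K474.FittLoc.mem_support_iff_le D hV hx'V, hz']
      exact hq'.2
    have hx'W : x' ∉ (Fitt.sheafIdeal (cokernel φ) (b - r)).support := fun h5 =>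
      hxW (hx'x.mem_closed (TopologicalSpace.Closeds.isClosed _) h5)
    obtain ⟨y', hy'⟩ : x' ∈ Set.range D.subschemeι := by
      rw [Scheme.IdealSheafData.range_subschemeι]
      exact hx'D
    have hy'W : y' ∈ W := (hW y').2 (by rwa [hy'])
    let ξ' : (W : Scheme.{u}) := ⟨y', hy'W⟩
    have hjξ' : j ξ' = x' := hy'
    have hξ' : ξ' ⤳ ξ := by
      refine j.isEmbedding.isInducing.specializes_iff.1 ?_
      rw [hjξ']
      exact hx'x
    have h6 : closure {ξ'} = Z := by
      refine le_antisymm (hZ.2 isIrreducible_singleton.closure ?_) ?_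
      · rw [← hξ.def]
        exact closure_minimal (Set.singleton_subset_iff.2 hξ'.mem_closure) isClosed_closure
      · rw [← hξ.def]
        exact closure_minimal (Set.singleton_subset_iff.2 hξ'.mem_closure) isClosed_closure
    have h7 : ξ ⤳ ξ' := by
      rw [specializes_iff_mem_closure, hξ.def, ← h6]
      exact subset_closure rfl
    have h8 : x ⤳ x' := by
      have h5 := h7.map j.continuous
      rwa [hjξ'] at h5
    have h9 : hV.primeIdealOf ⟨x, hxV⟩ ⤳ z' := by
      refine hV.fromSpec.isOpenEmbedding.isInducing.specializes_iff.1 ?_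
      rw [hV.fromSpec_primeIdealOf ⟨x, hxV⟩]
      exact h8
    exact (PrimeSpectrum.le_iff_specializes _ _).2 h9
  let : Algebra k Γ(X, V) := (kap k V).toAlgebra
  have hft : Algebra.FiniteType k Γ(X, V) := finiteType hV
  have hne : Nonempty V := ⟨⟨x, hxV⟩⟩
  have hdom : IsDomain Γ(X, V) := inferInstance
  have h5 := DegenHeight.le_ringKrullDim_quotient (k := k) (mat e f φ) _ hmin s t hst
  have h6 := ringKrullDim_quotient_le (X ↘ Spec (CommRingCat.of k)) hV hxV
  have h7 := le_ringKrullDim (X ↘ Spec (CommRingCat.of k)) hV hxV hn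
  have h8 : (n : WithBot ℕ∞) ≤ ((td (X ↘ Spec (CommRingCat.of k)) x : ℕ) : WithBot ℕ∞) +
      (((a - r) * (b - r) : ℕ) : WithBot ℕ∞) := by
    refine h7.trans (h5.trans ?_)
    rw [Fintype.card_fin, Fintype.card_fin, mul_comm (b - r)]
    gcongr
  exact_mod_cast h8

end Strat

end K360.DegenStrat
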