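import Mathlib.RingTheory.AlgebraicIndependent.TranscendenceBasis
import Mathlib.RingTheory.Localization.Algebra
import Mathlib.LinearAlgebra.Basis.VectorSpace
import Mathlib.LinearAlgebra.Matrix.Rank
import Groth.Agent.Lefpen.H718.Minor
import Groth.Agent.QuotLF.K821.Minors

/-!
# Degeneracy loci: transcendence degrees of matrices of small rank

* `trdeg_le`: `L / F` a field extension generated by `t : Fin m → L`, `N : Fin m → Matrix ρ γ F` a family whose
  entries at the positions `S` are independent and vanish elsewhere; if in `y = ∑ t l • N l` the columns in `J` are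
  combinations of the columns in `W` (disjoint from `J`), then `trdeg F L + #(S ∩ columns in J) ≤ m + #J * #W`.
* `exists_kernel`: vanishing maximal minors give a kernel vector; `exists_cols`: vanishing `(r+1)`-minors give `r`
  columns spanning all columns.
-/

set_option autoImplicit false
universe u v w

namespace K360.DegenTrdeg

open K821.Minors

section LinAlg

variable {L : Type u} [Field L]

/-- `a` columns over a field whose `a × a` minors vanish are linearly dependent. -/
theorem exists_kernel {ρ γ : Type*} [Fintype ρ] [Fintype γ] (a : ℕ) (ha : Fintype.card γ = a)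
    (M : Matrix ρ γ L) (h : minorIdeal a M = ⊥) : ∃ v : γ → L, v ≠ 0 ∧ M.mulVec v = 0 := by
  classical
  by_contra hcon
  push Not at hcon
  have hli : LinearIndependent L M.col := by
    rw [Fintype.linearIndependent_iff]
    intro g hg
    by_contra hne
    push Not at hne
    obtain ⟨i, hi⟩ := hne
    refine hcon g (fun h0 => hi (by rw [h0]; rfl)) ?_
    ext i
    have := congrFun hg i
    simp only [Finset.sum_apply, Pi.smul_apply, smul_eq_mul, Matrix.col_apply, Pi.zero_apply] at this
    rw [Matrix.mulVec, dotProduct, Pi.zero_apply, ← this]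
    exact Finset.sum_congr rfl fun j _ => mul_comm _ _
  let e : Fin a ≃ γ := (finCongr ha.symm).trans (Fintype.equivFin γ).symm
  let e' : Fin (Fintype.card ρ) ≃ ρ := (Fintype.equivFin ρ).symm
  have h1 : LinearIndependent L (M.submatrix e' e).transpose.row := by
    have h2 : (M.submatrix e' e).transpose.row = fun j : Fin a => (M.col (e j)) ∘ e' := rfl
    rw [h2]
    have h3 := (hli.comp e e.injective).map' (LinearEquiv.funCongrLeft L L e').toLinearMap (LinearEquiv.ker _)
    exact h3
  obtain ⟨σ, hσ⟩ := Groth.Agent.Lefpen.H718.Minor.exists_minor _ h1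
  apply hσ
  rw [← Matrix.det_transpose]
  have h4 := minor_mem a M (e' ∘ σ) e
  rw [h, Ideal.mem_bot] at h4
  exact h4

/-- Vanishing of the `(r + 1) × (r + 1)` minors: some `r` columns span all columns. -/
theorem exists_cols {ρ γ : Type*} [Fintype ρ] [Fintype γ] [DecidableEq γ] (r : ℕ) (hr : r ≤ Fintype.card γ)
    (M : Matrix ρ γ L) (h : minorIdeal (r + 1) M = ⊥) :
    ∃ (W : Finset γ) (w : γ → γ → L), W.card = r ∧ ∀ s i, M i s = ∑ j ∈ W, w s j * M i j := by
  classical
  -- a maximal independent set of columns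
  obtain ⟨I, hI⟩ := exists_linearIndependent' L M.col
  obtain ⟨a, ha, hspan, hli⟩ := hI
  have hfin : Finite I := Finite.of_injective a ha
  have := Fintype.ofFinite I
  have hIr : Fintype.card I ≤ r := by
    by_contra hlt
    push Not at hlt
    obtain ⟨e⟩ : Nonempty (Fin (r + 1) ↪ I) := by
      rw [Function.Embedding.nonempty_iff_card_le, Fintype.card_fin]
      exact hlt
    have h1 : minorIdeal (r + 1) (M.submatrix id (a ∘ e)) = ⊥ := by
      rw [eq_bot_iff, minorIdeal_le_iff]
      intro x y
      rw [← h]
      exact minor_mem (r + 1) M x ((a ∘ e) ∘ y)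
    obtain ⟨v, hv0, hv⟩ := exists_kernel (r + 1) (Fintype.card_fin _) _ h1
    apply hv0
    have h2 := hli.comp e e.injective
    rw [Fintype.linearIndependent_iff] at h2
    funext i
    refine h2 v ?_ i
    funext k
    have := congrFun hv k
    rw [Matrix.mulVec, dotProduct, Pi.zero_apply] at this
    rw [Finset.sum_apply, Pi.zero_apply, ← this]
    refine Finset.sum_congr rfl fun j _ => ?_
    rw [Pi.smul_apply, smul_eq_mul, mul_comm]
    rfl
  -- enlarge it
  obtain ⟨W, hW1, hW2⟩ : ∃ W : Finset γ, Finset.univ.image a ⊆ W ∧ W.card = r := by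
    have h1 : (Finset.univ.image a).card ≤ r := Finset.card_image_le.trans (by simpa using hIr)
    obtain ⟨W, h2, -, h3⟩ := Finset.exists_subsuperset_card_eq (Finset.subset_univ (Finset.univ.image a))
      h1 (by simpa using hr)
    exact ⟨W, h2, h3⟩
  have h5 : ∀ s : γ, M.col s ∈ Submodule.span L (Set.range fun j : W => M.col j) := by
    intro s
    have h6 : M.col s ∈ Submodule.span L (Set.range M.col) := Submodule.subset_span ⟨s, rfl⟩
    rw [← hspan] at h6
    refine Submodule.span_mono ?_ h6
    rintro _ ⟨i, rfl⟩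
    exact ⟨⟨a i, hW1 (Finset.mem_image_of_mem _ (Finset.mem_univ i))⟩, rfl⟩
  choose c hc using fun s => (Submodule.mem_span_range_iff_exists_fun L).1 (h5 s)
  refine ⟨W, fun s j => if hj : j ∈ W then c s ⟨j, hj⟩ else 0, hW2, fun s i => ?_⟩
  have h7 := congrFun (hc s) i
  rw [Finset.sum_apply] at h7
  rw [← Finset.sum_coe_sort W (fun j => (if hj : j ∈ W then c s ⟨j, hj⟩ else 0) * M i j)]
  refine Eq.trans h7.symm (Finset.sum_congr rfl fun j _ => ?_)
  rw [dif_pos j.2]
  rfl

end LinAlg

section Trdeg

variable {F : Type u} {L : Type u} [Field F] [Field L] [Algebra F L]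

/-- The transcendence degree of an extension is at most the number of elements of a finite family over which all
generators are polynomial expressions. -/
theorem trdeg_le_card {m : ℕ} (t : Fin m → L) [Algebra.IsAlgebraic (Algebra.adjoin F (Set.range t)) L]
    {ι : Type*} [Fintype ι] (s : ι → L) (h : ∀ l, t l ∈ Algebra.adjoin F (Set.range s)) :
    Algebra.trdeg F L ≤ (Fintype.card ι : Cardinal.{u}) := by
  classical
  have h1 : Algebra.adjoin F (Set.range t) ≤ Algebra.adjoin F (Set.range s) := by
    rw [Algebra.adjoin_le_iff]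
    rintro _ ⟨l, rfl⟩
    exact h l
  have : Algebra.IsAlgebraic (Algebra.adjoin F (Set.range s)) L := by
    constructor
    intro x
    have h2 : IsAlgebraic (Algebra.adjoin F (Set.range t)) x := Algebra.IsAlgebraic.isAlgebraic x
    obtain ⟨p, hp0, hp⟩ := h2
    refine ⟨p.map (Subalgebra.inclusion h1).toRingHom, ?_, ?_⟩
    · rwa [Ne, Polynomial.map_eq_zero_iff]
      exact Subalgebra.inclusion_injective h1
    · rw [Polynomial.aeval_def, Polynomial.eval₂_map]
      exact hp
  refine (Algebra.IsAlgebraic.trdeg_le_cardinalMk F (Set.range s)).trans ?_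
  have h3 : (Set.range s).toFinset.card ≤ Fintype.card ι := by
    rw [Set.toFinset_range]
    exact Finset.card_image_le
  rw [Cardinal.mk_fintype, ← Set.toFinset_card]
  exact_mod_cast h3

variable {ρ γ : Type*} [DecidableEq ρ] [DecidableEq γ]

/-- **The key estimate**. -/
theorem trdeg_le {m : ℕ} (t : Fin m → L) [Algebra.IsAlgebraic (Algebra.adjoin F (Set.range t)) L]
    (N : Fin m → Matrix ρ γ F) (S : Finset (ρ × γ))
    (hS : ∀ l i j, (i, j) ∉ S → N l i j = 0)
    (hli : LinearIndependent F (fun x : S => fun l => N l x.1.1 x.1.2))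
    (J W : Finset γ) (hJW : Disjoint J W) (w : γ → γ → L)
    (hw : ∀ s ∈ J, ∀ i, ∑ l, t l * algebraMap F L (N l i s) =
      ∑ j ∈ W, w s j * ∑ l, t l * algebraMap F L (N l i j))
    (c : ℕ) (hc : c + J.card * W.card ≤ (S.filter fun x => x.2 ∈ J).card) :
    ∃ d : ℕ, Algebra.trdeg F L ≤ (d : Cardinal.{u}) ∧ d + c ≤ m := by
  classical
  -- a complement
  obtain ⟨Q, hQ⟩ := Submodule.exists_isCompl (Submodule.span F (Set.range fun x : S => fun l => N l x.1.1 x.1.2))
  have hcard : S.card + Module.finrank F Q = m := by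
    have h1 := Submodule.finrank_add_eq_of_isCompl hQ
    rw [finrank_span_eq_card hli, Fintype.card_coe, Module.finrank_fin_fun] at h1
    exact h1
  let b := Module.finBasis F Q
  -- the evaluation
  let T : (Fin m → F) →ₗ[F] L := Fintype.linearCombination F t
  have hT : ∀ f : Fin m → F, T f = ∑ l, t l * algebraMap F L (f l) := fun f => by
    rw [Fintype.linearCombination_apply]
    exact Finset.sum_congr rfl fun l _ => by rw [Algebra.smul_def, mul_comm]
  let y : ρ → γ → L := fun i j => ∑ l, t l * algebraMap F L (N l i j)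
  let ι := Fin (Module.finrank F Q) ⊕ ({x // x ∈ S.filter fun x => x.2 ∉ J} ⊕ (J × W))
  let s : ι → L := Sum.elim (fun q => T (b q).1) (Sum.elim (fun x => y x.1.1 x.1.2) (fun x => w x.1 x.2))
  let E := Algebra.adjoin F (Set.range s)
  have hs : ∀ i, s i ∈ E := fun i => Algebra.subset_adjoin ⟨i, rfl⟩
  have hy1 : ∀ i j, j ∉ J → y i j ∈ E := by
    intro i j hj
    by_cases hij : (i, j) ∈ S
    · exact hs (Sum.inr (Sum.inl ⟨(i, j), Finset.mem_filter.2 ⟨hij, hj⟩⟩))
    · have : y i j = 0 := by
        refine Finset.sum_eq_zero fun l _ => ?_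
        rw [hS l i j hij, map_zero, mul_zero]
      rw [this]
      exact E.zero_mem
  have hy : ∀ i j, y i j ∈ E := by
    intro i j
    by_cases hj : j ∈ J
    · have h1 : y i j = ∑ j' ∈ W, w j j' * y i j' := hw j hj i
      rw [h1]
      refine E.sum_mem fun j' hj' => E.mul_mem ?_ (hy1 i j' fun h => ?_)
      · exact hs (Sum.inr (Sum.inr (⟨j, hj⟩, ⟨j', hj'⟩)))
      · exact Finset.disjoint_left.1 hJW h hj'
    · exact hy1 i j hj
  have hTE1 : ∀ f ∈ Submodule.span F (Set.range fun x : S => fun l => N l x.1.1 x.1.2), T f ∈ E := by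
    intro f hf
    induction hf using Submodule.span_induction with
    | mem f hf =>
      obtain ⟨x, rfl⟩ := hf
      rw [hT]
      exact hy x.1.1 x.1.2
    | zero => rw [map_zero]; exact E.zero_mem
    | add f g _ _ hf hg => rw [map_add]; exact E.add_mem hf hg
    | smul c f _ hf => rw [map_smul]; exact E.smul_mem hf c
  have hTE2 : ∀ f : Q, T f.1 ∈ E := by
    intro f
    rw [← b.sum_repr f, Submodule.coe_sum, map_sum]
    refine E.sum_mem fun q _ => ?_
    rw [Submodule.coe_smul, map_smul]
    exact E.smul_mem (hs (Sum.inl q)) _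
  have hTE : ∀ f, T f ∈ E := by
    intro f
    have h1 : f ∈ Submodule.span F (Set.range fun x : S => fun l => N l x.1.1 x.1.2) ⊔ Q := by
      rw [hQ.sup_eq_top]
      trivial
    obtain ⟨f₁, h2, f₂, h3, rfl⟩ := Submodule.mem_sup.1 h1
    rw [map_add]
    exact E.add_mem (hTE1 f₁ h2) (hTE2 ⟨f₂, h3⟩)
  have ht : ∀ l, t l ∈ E := by
    intro l
    have h1 : T (Pi.single l 1) = t l := by
      rw [hT, Finset.sum_eq_single l]
      · rw [Pi.single_eq_same, map_one, mul_one]
      · intro l' _ hl'
        rw [Pi.single_eq_of_ne hl', map_zero, mul_zero]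
      · intro h
        exact absurd (Finset.mem_univ l) h
    rw [← h1]
    exact hTE _
  refine ⟨Fintype.card ι, trdeg_le_card t s ht, ?_⟩
  have h2 : Fintype.card ι = Module.finrank F Q +
      ((S.filter fun x => x.2 ∉ J).card + J.card * W.card) := by
    simp only [ι, Fintype.card_sum, Fintype.card_prod, Fintype.card_coe, Fintype.card_fin]
  have h3 : (S.filter fun x => x.2 ∈ J).card + (S.filter fun x => x.2 ∉ J).card = S.card :=
    Finset.card_filter_add_card_filter_not _
  rw [h2]
  omega

end Trdeg

end K360.DegenTrdeg
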